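import Groth.Agent.ProjDimLib.Basic
import Groth.Agent.GradedHilbLib.CI
import Groth.Agent.ProjTopLib.Irred
import Groth.Agent.ProjTopLib.Maps
import Groth.Prelude.Def_CohB1

/-!
# Projective space over a field: integral of dimension `n`
-/

set_option autoImplicit false
universe u

open CategoryTheory CategoryTheory.Limits AlgebraicGeometry TopologicalSpace
open MvPolynomial

noncomputable section

namespace GenusZeroLib

variable (k : Type u) [Field k] (n : ℕ)

theorem hilb_bot_ne_zero : GradedHilbLib.hilb (⊥ : Ideal (MvPolynomial (Fin (n + 1)) k)) ≠ 0 := by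
  rw [GradedHilbLib.hilb_bot]
  intro h
  have h1 := congrArg (fun P : Polynomial ℚ => Polynomial.eval 0 P) h
  simp [Polynomial.preHilbertPoly] at h1
  exact Nat.factorial_ne_zero n h1

/-- the generic point of projective space -/
def genPt : ProjectiveSpectrum (CohB1.polyGrading n k) :=
  haveI : (⊥ : Ideal (MvPolynomial (Fin (n + 1)) k)).IsPrime := Ideal.isPrime_bot
  ProjDimLib.mkPt ⊥ (Ideal.IsHomogeneous.bot _) (hilb_bot_ne_zero k n)

theorem dPt_genPt : ProjDimLib.dPt (genPt k n) = n := by
  change (GradedHilbLib.hilb (⊥ : Ideal (MvPolynomial (Fin (n + 1)) k))).natDegree = n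
  rw [GradedHilbLib.hilb_bot, Polynomial.natDegree_preHilbertPoly]

theorem closure_genPt : closure ({genPt k n} : Set (ProjectiveSpectrum (CohB1.polyGrading n k))) = Set.univ :=
  Set.eq_univ_of_forall fun y => (ProjectiveSpectrum.le_iff_mem_closure _ _ _).mp fun _ ha => by
    have h0 : _ = (0 : MvPolynomial (Fin (n + 1)) k) := (Submodule.mem_bot _).mp ha
    exact h0 ▸ zero_mem y.asHomogeneousIdeal.toIdeal

theorem dim_projSpace : topologicalKrullDim ↥(CohB1.ProjSpace n k) = (n : WithBot ℕ∞) := by
  have h := ProjDimLib.dim_closure (genPt k n)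
  rw [closure_genPt, dPt_genPt] at h
  rw [← h]
  exact ((Homeomorph.Set.univ _).isInducing.topologicalKrullDim_le).antisymm'
    ((Homeomorph.Set.univ _).symm.isInducing.topologicalKrullDim_le)

theorem irreducibleSpace_projSpace : IrreducibleSpace ↥(CohB1.ProjSpace n k) := by
  have h : IsIrreducible (Set.univ : Set (ProjectiveSpectrum (CohB1.polyGrading n k))) :=
    closure_genPt k n ▸ isIrreducible_singleton.closure
  exact irreducibleSpace_def _ |>.mpr h

theorem isReduced_projSpace : IsReduced (CohB1.ProjSpace n k) :=
  ProjTopLib.isReduced_proj (CohB1.polyGrading n k) fun _ _ hf => hf.eq_zero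

theorem isIntegral_projSpace : IsIntegral (CohB1.ProjSpace n k) := by
  have := irreducibleSpace_projSpace k n
  have := isReduced_projSpace k n
  exact isIntegral_of_irreducibleSpace_of_isReduced _

/-- A closed immersion of a space of the same dimension is an isomorphism. -/
theorem isIso_of_isClosedImmersion {Y : Scheme.{u}} [Nonempty Y] (r : Y ⟶ CohB1.ProjSpace n k) [IsClosedImmersion r]
    (hdim : topologicalKrullDim Y = n) : IsIso r := by
  have := isReduced_projSpace k n
  have hr : IsClosed (Set.range r) := r.isClosedEmbedding.isClosed_range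
  obtain ⟨x, hx, hxn⟩ := ProjDimLib.exists_dPt_eq (k := k) (n := n) hr (Set.range_nonempty _) (r := n) (by
    rw [← hdim]
    exact ((r.isEmbedding.toHomeomorph.symm).isInducing.topologicalKrullDim_le).antisymm
      ((r.isEmbedding.toHomeomorph).isInducing.topologicalKrullDim_le))
  have hxg : x = genPt k n := by
    by_contra hne
    have hle : genPt k n ≤ x := fun a ha => by
      have h0 : _ = (0 : MvPolynomial (Fin (n + 1)) k) := (Submodule.mem_bot _).mp ha
      exact h0 ▸ zero_mem x.asHomogeneousIdeal.toIdeal
    have := ProjDimLib.dPt_lt (lt_of_le_of_ne hle (Ne.symm hne))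
    rw [dPt_genPt, hxn] at this
    exact lt_irrefl _ this
  have hsurj : Function.Surjective r := fun y => by
    have h := closure_minimal (Set.singleton_subset_iff.mpr hx) hr
    rw [hxg] at h
    exact h ((closure_genPt k n).ge (Set.mem_univ y))
  haveI : Surjective r := ⟨hsurj⟩
  exact isIso_of_isClosedImmersion_of_surjective r

end GenusZeroLib

end
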