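import Groth.Agent.GenusZeroLib.Embed
import Groth.Agent.GenusZeroLib.PSpace

/-!
# Curves of genus zero with a module of degree one
-/

set_option autoImplicit false
universe u

open CategoryTheory CategoryTheory.Limits AlgebraicGeometry TopologicalSpace Opposite

noncomputable section

namespace GenusZeroLib

variable (k : Type u) [Field k] {X : Scheme.{u}} [X.Over (Spec (CommRingCat.of k))]
  [IsProper (X ↘ Spec (CommRingCat.of k))] [IsIntegral X] (hdim : topologicalKrullDim X = 1)
  (h1 : Subsingleton (Coh.HH X (Coh.structureModule X) 1))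
  {L : X.Modules} (hL : PicF.IsInvertible L)

include hdim h1 hL in
/-- With `H¹(O) = 0`, a module of degree one forces the global functions to be the constants. -/
theorem finrank_structure_of_deg_one (hdeg : Curv2.deg k X L 1 = 1) :
    Module.finrank k (Coh.HH X (Coh.structureModule X) 0) = 1 := by
  have hO := CurvLib.isInvertible_structureModule (X := X)
  haveI := CurvLib.finite_HH (k := k) (CurvLib.isCoh_of_isInvertible hO) 0
  haveI := CurvLib.finite_HH (k := k) (CurvLib.isCoh_of_isInvertible hL) 0
  haveI := CurvLib.finite_HH (k := k) (CurvLib.isCoh_of_isInvertible hL) 1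
  have e1 := CurvLib.euler_curve (k := k) hdim (Coh.structureModule X)
  rw [Module.finrank_zero_of_subsingleton (R := k) (M := Coh.HH X (Coh.structureModule X) 1)] at e1
  have e2 := CurvLib.euler_curve (k := k) hdim L
  have hd : Curv2.euler k X L = Curv2.euler k X (Coh.structureModule X) + 1 := by
    rw [Curv2.deg] at hdeg
    push_cast at hdeg
    omega
  have hne : Nontrivial (Coh.HH X L 0) := by
    apply Module.nontrivial_of_finrank_pos (R := k)
    omega
  obtain ⟨s, hs⟩ := CurvLib.exists_hom_ne_zero hne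
  have h1L := CurvLib.h1_le (k := k) hdim hO hL hs
  rw [Module.finrank_zero_of_subsingleton (R := k) (M := Coh.HH X (Coh.structureModule X) 1)] at h1L
  have hLn : Module.finrank k (Coh.HH X L 0) = Module.finrank k (Coh.HH X (Coh.structureModule X) 0) + 1 := by
    omega
  letI : Algebra k Γ(X, ⊤) := RingHom.toAlgebra (ρ k)
  letI := kmod k L
  let eO : Coh.HH X (Coh.structureModule X) 0 ≃ₗ[k] Γ(X, ⊤) :=
    { (DegPullLib.e0 (Coh.structureModule X)) with
      map_smul' := fun r x => (DegPullLib.e0_smul (Coh.structureModule X) _ x).trans rfl }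
  haveI : Module.Finite k Γ(X, ⊤) := Module.Finite.equiv eO
  haveI : Nonempty (⊤ : X.Opens) := ⟨⟨genericPoint X, trivial⟩⟩
  haveI : IsDomain Γ(X, ⊤) := IsIntegral.component_integral ⊤
  haveI : Algebra.IsIntegral k Γ(X, ⊤) := Algebra.IsIntegral.of_finite k _
  letI : Field Γ(X, ⊤) := (isField_of_isIntegral_of_isField' (Field.toIsField k)).toField
  haveI : IsScalarTower k Γ(X, ⊤) Γ(L, ⊤) := ⟨fun a b c => mul_smul (ρ k a) b c⟩
  have hm := Module.finrank_mul_finrank k Γ(X, ⊤) Γ(L, ⊤)
  rw [← (e0k k L).finrank_eq, hLn, ← eO.finrank_eq] at hm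
  have hdvd : Module.finrank k (Coh.HH X (Coh.structureModule X) 0) ∣
      Module.finrank k (Coh.HH X (Coh.structureModule X) 0) + 1 := ⟨_, hm.symm⟩
  exact Nat.dvd_one.mp ((Nat.dvd_add_right dvd_rfl).mp hdvd)

include hdim h1 hL in
/-- A proper curve with `H¹(O) = 0` and a module of degree one is the projective line. -/
theorem exists_iso_of_deg_one (hdeg : Curv2.deg k X L 1 = 1) :
    ∃ e : X ≅ CohB1.ProjSpace 1 k, e.hom ≫ CohB1.ProjSpace.toSpec 1 k = X ↘ (Spec (CommRingCat.of k)) := by
  obtain ⟨r, hr, hrb, -⟩ := exists_closedImmersion k hdim (finrank_structure_of_deg_one k hdim h1 hL hdeg) h1 hL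
    Nat.one_pos (by exact_mod_cast hdeg)
  let r' : X ⟶ CohB1.ProjSpace 1 k := r
  haveI : IsClosedImmersion r' := hr
  haveI : Nonempty X := ⟨genericPoint X⟩
  haveI := isIso_of_isClosedImmersion k 1 r' (by exact_mod_cast hdim)
  exact ⟨asIso r', hrb⟩

end GenusZeroLib

end
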