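import Groth.Agent.GenusZeroLib.Point
import Groth.Agent.GenusZeroLib.Line

/-!
# The group of degrees of invertible modules
-/

set_option autoImplicit false
universe u

open CategoryTheory CategoryTheory.Limits AlgebraicGeometry TopologicalSpace

noncomputable section

namespace GenusZeroLib

variable (k : Type u) [Field k] {X : Scheme.{u}} [X.Over (Spec (CommRingCat.of k))]
  [IsProper (X ↘ Spec (CommRingCat.of k))] [IsIntegral X] (hdim : topologicalKrullDim X = 1)

include hdim in
theorem deg_tensor {L M : X.Modules} (hL : PicF.IsInvertible L) (hM : PicF.IsInvertible M) :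
    Curv2.deg k X (CohB1.tensorMod L M) 1 = Curv2.deg k X L 1 + Curv2.deg k X M 1 := by
  have h1 : CurvLib.genRank M = 1 := by
    obtain ⟨U, e, hU, he⟩ := TwistLib.exists_genOn hM (genericPoint X)
    have h := (LinearEquiv.ofBijective (LinearMap.toSpanSingleton (X.presheaf.stalk (genericPoint X))
      (M.presheaf.stalk (genericPoint X)) (M.presheaf.germ U _ hU e)) (he.genAt hU)).finrank_eq
    rw [CurvLib.genRank, ← h, Module.finrank_self]
  have h := (CurvLib.eulerTensorFormula_of_isCoh (k := k) hdim
    (CurvLib.locFree_of_isInvertible hL) M (CurvLib.isCoh_of_isInvertible hM)).2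
  rw [h1] at h
  have e : Curv2.euler k X (CohB1.tensorMod L M) = Curv2.euler k X M + Curv2.deg k X L 1 := by
    refine (h : Curv2.euler k X (CohB1.tensorMod L M) = _).trans ?_
    push_cast
    ring
  simp only [Curv2.deg] at e ⊢
  push_cast at e ⊢
  linarith

/-- the degrees that occur -/
def Realised (n : ℤ) : Prop := ∃ L : X.Modules, PicF.IsInvertible L ∧ Curv2.deg k X L 1 = n

include hdim in
theorem realised_add {m n : ℤ} (h : Realised k (X := X) m) (h' : Realised k (X := X) n) :
    Realised k (X := X) (m + n) := by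
  obtain ⟨L, hL, rfl⟩ := h
  obtain ⟨M, hM, rfl⟩ := h'
  exact ⟨CohB1.tensorMod L M, AmpleThLib.shT_isInvertible hL hM, deg_tensor k hdim hL hM⟩

theorem realised_zero : Realised k (X := X) 0 :=
  ⟨Coh.structureModule X, CurvLib.isInvertible_structureModule, by rw [Curv2.deg]; push_cast; ring⟩

include hdim in
/-- Points with normal local rings of coprime degrees give degree one. -/
theorem realised_one_of_gcd (s : Finset X) (hcl : ∀ x ∈ s, IsClosed ({x} : Set X))
    (hn : ∀ x ∈ s, IsIntegrallyClosed (X.presheaf.stalk x))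
    (hgcd : s.gcd (fun x => (letI := Curv2.resAlgebra k X x; Module.finrank k (X.residueField x))) = 1) :
    Realised k (X := X) 1 := by
  let d : X → ℕ := fun x => letI := Curv2.resAlgebra k X x; Module.finrank k (X.residueField x)
  let G : AddSubgroup ℤ := AddSubgroup.closure ((fun x => (d x : ℤ)) '' (s : Set X))
  have hG : ∀ n ∈ G, Realised k (X := X) n ∧ Realised k (X := X) (-n) := by
    intro n hn'
    induction hn' using AddSubgroup.closure_induction with
    | mem n hn' =>
      obtain ⟨x, hx, rfl⟩ := hn'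
      haveI := isDiscreteValuationRing_stalk k hdim (hcl x hx) (hn x hx)
      obtain ⟨L, hL, -, h1, -⟩ := exists_point_bundle (k := k) hdim (hcl x hx)
      obtain ⟨M, hM, h2⟩ := exists_point_bundle_neg (k := k) hdim (hcl x hx)
      exact ⟨⟨L, hL, h1⟩, ⟨M, hM, h2⟩⟩
    | zero => exact ⟨realised_zero k, by rw [neg_zero]; exact realised_zero k⟩
    | add a b _ _ ha hb => exact ⟨realised_add k hdim ha.1 hb.1, by rw [neg_add]; exact realised_add k hdim ha.2 hb.2⟩
    | neg a _ ha => exact ⟨ha.2, by rw [neg_neg]; exact ha.1⟩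
  obtain ⟨a, ha⟩ := Int.subgroup_cyclic G
  have hdvd : a.natAbs ∣ 1 := hgcd ▸ Finset.dvd_gcd fun x hx => by
    have hxG : (d x : ℤ) ∈ G := AddSubgroup.subset_closure ⟨x, hx, rfl⟩
    rw [ha, AddSubgroup.mem_closure_singleton] at hxG
    obtain ⟨n, hn'⟩ := hxG
    exact Int.natAbs_dvd_natAbs.mpr (Dvd.intro_left n (by simpa using hn')) |>.trans (dvd_of_eq (Int.natAbs_natCast _))
  refine (hG 1 ?_).1
  rw [ha, AddSubgroup.mem_closure_singleton]
  rcases Int.natAbs_eq a with h | h
  · exact ⟨1, by rw [h, Nat.dvd_one.mp hdvd]; simp⟩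
  · exact ⟨-1, by rw [h, Nat.dvd_one.mp hdvd]; simp⟩

end GenusZeroLib

end
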