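import Groth.Agent.GenusZeroLib.Mult
import Groth.Agent.AmpleThLib.ProjA

/-!
# The embedding of a curve of genus zero
-/

set_option autoImplicit false
universe u

open CategoryTheory CategoryTheory.Limits AlgebraicGeometry TopologicalSpace Opposite
open HomogeneousLocalization AmpleLib
open TwistLib (genSet)
open AmpleThLib

noncomputable section

namespace GenusZeroLib

section

variable {X : Scheme.{u}} {R : Type u} [CommRing R] {M : X.Modules}

/-- `exists_toPA`, remembering the pullback of `O(1)`. -/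
theorem exists_toPA_iso (q : X ⟶ Spec (CommRingCat.of R)) (hM : PicF.IsInvertible M) {m : ℕ}
    (v : Fin (m + 1) → Γ(M, ⊤)) (hgen : ∀ y : X, ∃ k, y ∈ genSet hM (v k)) :
    ∃ (r : X ⟶ Proj (CohB1.polyGrading m R)), r ≫ baseA (CohB1.polyGrading m R) = q ∧
      (∀ k, r ⁻¹ᵁ Proj.basicOpen (CohB1.polyGrading m R) (MvPolynomial.X k) = genSet hM (v k)) ∧
      (∀ k j, (show Γ(X, r ⁻¹ᵁ Proj.basicOpen (CohB1.polyGrading m R) (MvPolynomial.X k)) from
          r.app _ (Proj.awayToSection (CohB1.polyGrading m R) (MvPolynomial.X k)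
            (TwistLib.frac (CohB1.polyGrading m R) (MvPolynomial.isHomogeneous_X R k)
              (MvPolynomial.isHomogeneous_X R j)))) •
        res M (le_top : r ⁻¹ᵁ Proj.basicOpen (CohB1.polyGrading m R) (MvPolynomial.X k) ≤ ⊤) (v k) =
          res M le_top (v j)) ∧
      Nonempty ((Scheme.Modules.pullback r).obj (Twist.twist (CohB1.polyGrading m R) ((1 : ℕ) : ℤ)) ≅ M) := by
  classical
  let 𝒮 := CohB1.polyGrading m R
  let b := Pi.basisFun R (Fin (m + 1))
  let ι : (Fin (m + 1) → R) →ₗ[R] MvPolynomial (Fin (m + 1)) R :=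
    Module.Basis.constr b R MvPolynomial.X
  have hι : ∀ c, ι c ∈ 𝒮 1 := by
    intro c
    rw [Module.Basis.constr_apply_fintype]
    exact sum_mem fun i _ => Submodule.smul_mem _ _ (MvPolynomial.isHomogeneous_X _ i)
  have hsym : IsSymmetricAlgebra ι := SymmetricAlgebra.IsSymmetricAlgebra.mvPolynomial (Fin (m + 1)) b
  let ρ := ProjUP.toGlobal q
  let v' : (Fin (m + 1) → R) →+ Γ(M, ⊤) :=
    AddMonoidHom.mk' (fun c => ∑ i, ρ (c i) • v i)
      (fun c c' => by simp only [Pi.add_apply, map_add, add_smul, Finset.sum_add_distrib])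
  have hv : ∀ (a : R) c, v' (a • c) = ρ a • v' c := fun a c => by
    simp only [v', AddMonoidHom.mk'_apply, Finset.smul_sum]
    exact Finset.sum_congr rfl fun i _ => by rw [Pi.smul_apply, smul_eq_mul, map_mul, mul_smul]
  have hb : ∀ k, v' (b k) = v k := fun k => by
    simp only [v', b, AddMonoidHom.mk'_apply, Pi.basisFun_apply]
    rw [Finset.sum_eq_single k (fun i _ hi => by rw [Pi.single_eq_of_ne hi, map_zero, zero_smul])
      (fun h => absurd (Finset.mem_univ k) h), Pi.single_eq_same, map_one, one_smul]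
  have hbι : ∀ k, ι (b k) = MvPolynomial.X k := fun k => b.constr_basis _ _ k
  obtain ⟨r, hrb, τ, hτ⟩ := TwistLib.SymUP.exists_r_τ 𝒮 ι hι hsym q M hM v' hv fun y => by
    obtain ⟨k, hk⟩ := hgen y
    exact ⟨b k, show y ∈ genSet hM (v' (b k)) by rw [hb]; exact hk⟩
  let glob : Fin (m + 1) → Γ(Twist.twist 𝒮 ((1 : ℕ) : ℤ), ⊤) := fun k =>
    Twist.globalOf 𝒮 ⟨MvPolynomial.X k, MvPolynomial.isHomogeneous_X R k⟩
  have hτ' : ∀ k, τ.hom.app ⊤ (KFlatLib.puSec r (glob k)) = v k := fun k => by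
    refine Eq.trans ?_ ((hτ (b k)).trans (hb k))
    refine congrArg (fun t : 𝒮 1 => τ.hom.app ⊤ (KFlatLib.puSec r (U := ⊤)
      (show Γ(Twist.twist 𝒮 ((1 : ℕ) : ℤ), ⊤) from Twist.globalOf 𝒮 t))) ?_
    exact Subtype.ext (hbι k).symm
  refine ⟨r, hrb, fun k => ?_, fun k j => ?_, ⟨τ⟩⟩
  · ext y
    change r y ∈ Proj.basicOpen 𝒮 (MvPolynomial.X k) ↔ GenAt M (v k) _
    rw [← hbι k, ← TwistLib.SymUP.genAt_pull_iff 𝒮 ι hι hsym r (b k) y, ← hb k, ← hτ (b k)]
    exact (TwistLib.genAt_app_iso τ _ _).symm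
  · let D := Proj.basicOpen 𝒮 (MvPolynomial.X k)
    have hc := TwistLib.frac_smul_globalOf 𝒮 (MvPolynomial.isHomogeneous_X R k) (MvPolynomial.isHomogeneous_X R j)
    have h1 := congrArg (fun t => τ.hom.app (r ⁻¹ᵁ D) (KFlatLib.puSec r t)) hc
    have h2 : ∀ i, τ.hom.app (r ⁻¹ᵁ D) (KFlatLib.puSec r
        (res (Twist.twist 𝒮 ((1 : ℕ) : ℤ)) (le_top : D ≤ ⊤) (glob i))) =
          res M (le_top : r ⁻¹ᵁ D ≤ ⊤) (v i) := fun i => by
      rw [← hτ' i, TwistLib.puSec_res]
      exact NatTrans.naturality_apply τ.hom.mapPresheaf (homOfLE (le_top : r ⁻¹ᵁ D ≤ ⊤)).op _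
    have e1 := congrArg (τ.hom.app (r ⁻¹ᵁ D)) (TwistLib.puSec_smul r
      (show Γ(Proj 𝒮, D) from Proj.awayToSection 𝒮 (MvPolynomial.X k)
        (TwistLib.frac 𝒮 (MvPolynomial.isHomogeneous_X R k) (MvPolynomial.isHomogeneous_X R j)))
      (res (Twist.twist 𝒮 ((1 : ℕ) : ℤ)) (le_top : D ≤ ⊤) (glob k)))
    have h3 := (Scheme.Modules.Hom.app_smul τ.hom _ _).symm.trans (e1.symm.trans h1)
    exact ((congrArg (_ • ·) (h2 k)).symm.trans h3).trans (h2 j)

end

variable (k : Type u) [Field k] {X : Scheme.{u}} [X.Over (Spec (CommRingCat.of k))]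
  [IsProper (X ↘ Spec (CommRingCat.of k))] [IsIntegral X] (hdim : topologicalKrullDim X = 1)
  (h0 : Module.finrank k (Coh.HH X (Coh.structureModule X) 0) = 1)
  (h1 : Subsingleton (Coh.HH X (Coh.structureModule X) 1))
  {L : X.Modules} (hL : PicF.IsInvertible L) {d : ℕ} (hd : 0 < d) (hdeg : Curv2.deg k X L 1 = d)

include k hdim h0 h1 hL hd hdeg in
theorem coeff_mem {s : Γ(L, ⊤)} (hs : s ≠ 0) {t₀ : Γ(L, ⊤)}
    (ht₀ : ∀ x : X, x ∉ genSet hL s → GenAt L t₀ (show x ∈ (⊤ : X.Opens) from trivial))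
    (S : Subring Γ(X, genSet hL s))
    (hS0 : ∀ r : k, X.presheaf.map (homOfLE (le_top : genSet hL s ≤ ⊤)).op (ρ k r) ∈ S)
    (hS1 : ∀ t : Γ(L, ⊤), ∃ a ∈ S, a • res L (le_top : genSet hL s ≤ ⊤) s = res L le_top t) :
    ∀ (n : ℕ) (τ : Γ(CohB1.tensorPow L n, ⊤)),
      ∃ c ∈ S, c • pS (res L (le_top : genSet hL s ≤ ⊤) s) n = res (CohB1.tensorPow L n) le_top τ := by
  intro n
  induction n with
  | zero =>
    intro τ
    obtain ⟨r, hr⟩ := exists_const k h0 (show Γ(X, ⊤) from τ)
    refine ⟨_, hS0 r, ?_⟩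
    show X.presheaf.map (homOfLE (le_top : genSet hL s ≤ ⊤)).op (ρ k r) * (1 : Γ(X, genSet hL s)) = _
    rw [mul_one, hr]
    rfl
  | succ n ih =>
    intro τ
    obtain ⟨t, u, rfl⟩ := mul_surjective k hdim h0 h1 hL hd hdeg hs (σ := pS t₀ n)
      (fun x hx => pS_genAt (ht₀ x hx) n) τ
    obtain ⟨a, ha, ha'⟩ := hS1 t
    obtain ⟨b, hb, hb'⟩ := ih (pS t₀ n)
    obtain ⟨e, he, he'⟩ := ih u
    refine ⟨b * a + e, S.add_mem (S.mul_mem hb ha) he, ?_⟩
    refine Eq.trans ?_ (map_add _ _ _).symm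
    refine Eq.trans ?_ (congrArg₂ (· + ·) (shT_res le_top (pS t₀ n) t).symm (shT_res le_top u s).symm)
    rw [← ha', ← hb', ← he', shT_smul, shT_smul_left]
    exact add_smul _ _ _

include k hdim h0 h1 hL hd hdeg in
/-- Every function on the locus of `s` is a polynomial in the ratios. -/
theorem closure_eq_top {s : Γ(L, ⊤)} (hs : s ≠ 0) {t₀ : Γ(L, ⊤)}
    (ht₀ : ∀ x : X, x ∉ genSet hL s → GenAt L t₀ (show x ∈ (⊤ : X.Opens) from trivial))
    (S : Subring Γ(X, genSet hL s))
    (hS0 : ∀ r : k, X.presheaf.map (homOfLE (le_top : genSet hL s ≤ ⊤)).op (ρ k r) ∈ S)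
    (hS1 : ∀ t : Γ(L, ⊤), ∃ a ∈ S, a • res L (le_top : genSet hL s ≤ ⊤) s = res L le_top t) :
    S = ⊤ := by
  haveI := CurvLib.isNoetherian k (X := X)
  haveI : X.IsSeparated := ⟨by rw [← terminal.comp_from (X ↘ Spec (CommRingCat.of k))]; infer_instance⟩
  let V := genSet hL s
  let V' := genSet (tensorPow_isInvertible hL 1) (pS s 1)
  have hVV : V' = V := genSet_pS hL s Nat.one_pos
  have hsV : GenOn L (res L (le_top : V ≤ ⊤) s) :=
    TwistLib.genOn_of_genAt fun x hx => (genAt_res le_top s hx).mpr hx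
  rw [eq_top_iff]
  rintro f -
  obtain ⟨N, hN⟩ := exists_extend hL (pS s 1) (r := 0)
    (show Γ(CohB1.tensorPow L 0, V') from X.presheaf.map (homOfLE hVV.le).op f)
  obtain ⟨u, hu⟩ := hN N le_rfl
  obtain ⟨c, hc, hc'⟩ := coeff_mem k hdim h0 h1 hL hd hdeg hs ht₀ S hS0 hS1 _ u
  suffices f = c by rw [this]; exact hc
  refine (pS_genOn hsV (0 + 1 * N) V le_rfl).1 ?_
  dsimp only
  rw [AmpleLib.res_refl, hc']
  have h2 := congrArg (res _ hVV.ge) hu
  rw [res_res] at h2
  rw [h2]
  have hone : (1 : Γ(X, V)) • pS (res L (le_top : V ≤ ⊤) s) 1 = res _ le_top (pS s 1) := by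
    rw [one_smul, pS_res]
  have h3 := tPow_coeff hL (pS s 1) hsV hone N
  have h4 : res (CohB1.tensorPow L 0) hVV.ge
      (show Γ(CohB1.tensorPow L 0, V') from X.presheaf.map (homOfLE hVV.le).op f) =
      f • pS (res L (le_top : V ≤ ⊤) s) 0 := by
    refine Eq.trans ?_ (mul_one f).symm
    exact (AmpleLib.res_res (Coh.structureModule X) hVV.le hVV.ge f).trans
      (AmpleLib.res_refl (M := Coh.structureModule X) f)
  rw [mul_res, res_res, ← h3, h4, mul_coeff hL hsV, one_pow, mul_one]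

include k hdim h0 h1 hL hd hdeg in
/-- The complete linear system of an invertible module of positive degree is a closed immersion. -/
theorem exists_closedImmersion :
    ∃ r : X ⟶ Proj (CohB1.polyGrading d k), IsClosedImmersion r ∧
      r ≫ baseA (CohB1.polyGrading d k) = X ↘ Spec (CommRingCat.of k) ∧
      Nonempty ((Scheme.Modules.pullback r).obj (Twist.twist (CohB1.polyGrading d k) ((1 : ℕ) : ℤ)) ≅ L) := by
  classical
  letI := kmod k L
  have hfL := finrank_sections k hdim h0 h1 hL hdeg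
  haveI : Module.Finite k Γ(L, ⊤) := Module.finite_of_finrank_pos (hfL ▸ Nat.succ_pos _)
  let b : Module.Basis (Fin (d + 1)) k Γ(L, ⊤) := Module.finBasisOfFinrankEq k Γ(L, ⊤) hfL
  let v : Fin (d + 1) → Γ(L, ⊤) := fun j => b j
  have hv : ∀ j, v j ≠ 0 := fun j => b.ne_zero j
  have hspan : ∀ t : Γ(L, ⊤), t = ∑ j, ρ k (X := X) (b.repr t j) • v j := fun t =>
    (b.sum_repr t).symm.trans (Finset.sum_congr rfl fun j _ => by
      show ρ k (X := X) (b.repr t j) • b j = _
      rfl)
  choose t₀ ht₀ using fun j => exists_genAt_zeros k hdim h1 hL (hv j)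
  -- no base points
  have hcov : ∀ x : X, ∃ j, x ∈ genSet hL (v j) := by
    intro x
    by_contra hx
    push Not at hx
    have hgen := ht₀ 0 x (hx 0)
    obtain ⟨U, e, hxU, he⟩ := TwistLib.exists_genOn hL x
    let g := L.presheaf.germ U x hxU e
    have hg : Function.Bijective fun c : X.presheaf.stalk x => c • g := he.genAt hxU
    choose c hc using fun j => hg.2 (L.presheaf.germ ⊤ x trivial (v j))
    have hcm : ∀ j, c j ∈ IsLocalRing.maximalIdeal (X.presheaf.stalk x) := fun j =>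
      (IsLocalRing.mem_maximalIdeal _).mpr fun hu => hx j (by
        change Function.Bijective fun r : X.presheaf.stalk x => r • L.presheaf.germ ⊤ x trivial (v j)
        rw [← hc j]
        simp only [smul_smul]
        exact hg.comp hu.unit.mulRight.bijective)
    obtain ⟨a, ha, ha'⟩ : ∃ a ∈ IsLocalRing.maximalIdeal (X.presheaf.stalk x),
        a • g = L.presheaf.germ ⊤ x trivial (t₀ 0) := by
      refine ⟨∑ j, X.presheaf.germ ⊤ x trivial (ρ k (b.repr (t₀ 0) j)) * c j,
        Ideal.sum_mem _ fun j _ => Ideal.mul_mem_left _ _ (hcm j), ?_⟩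
      conv_rhs => rw [hspan (t₀ 0)]
      rw [map_sum, Finset.sum_smul]
      refine Finset.sum_congr rfl fun j _ => ?_
      rw [germ_smul, ← hc j, smul_smul]
    have hu : IsUnit a := by
      obtain ⟨i, hi⟩ := hgen.2 g
      dsimp only at hi
      rw [← ha', smul_smul] at hi
      exact IsUnit.of_mul_eq_one_right _ (hg.1 (hi.trans (one_smul _ g).symm))
    exact (IsLocalRing.mem_maximalIdeal _).mp ha hu
  obtain ⟨r, hrb, hpre, hcoef, hτ⟩ :=
    exists_toPA_iso (X ↘ Spec (CommRingCat.of k)) hL v hcov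
  let p := baseA (CohB1.polyGrading d k)
  have : IsProper (r ≫ p) := by rw [hrb]; infer_instance
  have : IsSeparated p := by simp only [p, baseA]; infer_instance
  have : IsProper r := IsProper.of_comp r p
  have hA : CohB1.IsAmple L := SerreVanLib.isAmple_of_deg_pos (k := k) hdim hL (by omega)
  refine ⟨r, ?_, hrb, hτ⟩
  have : IsImmersion r := by
    refine isImmersion_of_local r
      (fun j => Proj.basicOpen (CohB1.polyGrading d k) (MvPolynomial.X j)) (fun x => ?_) (fun j => ?_)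
    · obtain ⟨j, hx⟩ := hcov x
      exact ⟨j, (hpre j).ge hx⟩
    · let D := Proj.basicOpen (CohB1.polyGrading d k) (MvPolynomial.X j)
      have : IsAffine (r ⁻¹ᵁ D).toScheme :=
        (hpre j).symm ▸ CurveAmpLib.isAffineOpen_genSet (X ↘ Spec (CommRingCat.of k)) hL hA (v j)
      have : IsAffine D.toScheme :=
        Proj.isAffineOpen_basicOpen _ _ (MvPolynomial.isHomogeneous_X k j) one_pos
      refine IsClosedImmersion.of_surjective_of_isAffine _ ?_
      rw [Scheme.Hom.appTop, morphismRestrict_app']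
      refine surjective_appLE_congr r D.ι_image_top.symm
        ((hpre j).symm.trans (Scheme.Opens.ι_image_top _).symm) (hpre j).ge _ ?_
      intro a
      suffices h : a ∈ (r.appLE D _ (hpre j).ge).hom.range from h
      let S := (r.appLE D (genSet hL (v j)) (hpre j).ge).hom.range
      change a ∈ S
      have hS0 : ∀ c : k, X.presheaf.map (homOfLE (le_top : genSet hL (v j) ≤ ⊤)).op (ρ k c) ∈ S := fun c => by
        refine ⟨p.appLE ⊤ D le_top ((Scheme.ΓSpecIso (CommRingCat.of k)).inv c), ?_⟩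
        rw [← CommRingCat.comp_apply, Scheme.Hom.appLE_comp_appLE]
        simp only [p, hrb]
        rfl
      rw [closure_eq_top k hdim h0 h1 hL hd hdeg (hv j) (ht₀ j) S hS0 fun t => ?_]
      · exact Subring.mem_top a
      · have hl : ∀ l, ∃ c ∈ S, c • res L (le_top : genSet hL (v j) ≤ ⊤) (v j) = res L le_top (v l) := by
          intro l
          refine ⟨_, ⟨Proj.awayToSection (CohB1.polyGrading d k) (MvPolynomial.X j)
            (TwistLib.frac (CohB1.polyGrading d k) (MvPolynomial.isHomogeneous_X k j)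
              (MvPolynomial.isHomogeneous_X k l)), rfl⟩, ?_⟩
          have h1 := congrArg (res _ (hpre j).ge) (hcoef j l)
          rw [res_smul, res_res, res_res] at h1
          refine Eq.trans ?_ h1
          congr 1
        choose c hcS hc using hl
        refine ⟨∑ l, X.presheaf.map (homOfLE (le_top : genSet hL (v j) ≤ ⊤)).op (ρ k (b.repr t l)) * c l,
          sum_mem fun l _ => S.mul_mem (hS0 _) (hcS l), ?_⟩
        conv_rhs => rw [hspan t]
        rw [Finset.sum_smul]
        refine Eq.trans ?_ (map_sum (L.presheaf.map (homOfLE (le_top : genSet hL (v j) ≤ ⊤)).op).hom _ _).symm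
        refine Finset.sum_congr rfl fun l _ => ?_
        refine Eq.trans ?_ (res_smul L le_top (ρ k (b.repr t l)) (v l)).symm
        rw [mul_smul, hc l]
  exact IsClosedImmersion.of_isPreimmersion r r.isClosedMap.isClosed_range

end GenusZeroLib

end
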