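import Groth.Agent.GradedCechLib.Chart
import Mathlib.AlgebraicGeometry.Morphisms.Smooth

/-!
# Projective space is smooth
-/

set_option autoImplicit false
universe u

open CategoryTheory CategoryTheory.Limits AlgebraicGeometry TopologicalSpace
open HomogeneousLocalization MvPolynomial
open GradedCechLib

noncomputable section

namespace GenusZeroLib

variable (n : ℕ) (R : Type u) [CommRing R]

/-- the affine chart ring as a polynomial ring -/
def chartPoly (i : Fin (n + 1)) :
    MvPolynomial (Fin n) R →+* Away (CohB1.polyGrading n R) (X i : MvPolynomial (Fin (n + 1)) R) :=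
  eval₂Hom (cst n R (X i)) fun l => deh₀ n R i (X (i.succAbove l))

/-- setting a coordinate to one -/
def subst (i : Fin (n + 1)) : MvPolynomial (Fin (n + 1)) R →+* MvPolynomial (Fin n) R :=
  eval₂Hom MvPolynomial.C (i.insertNth (1 : MvPolynomial (Fin n) R) fun l => X l)

theorem chartPoly_bijective (i : Fin (n + 1)) : Function.Bijective (chartPoly n R i) := by
  have hfac : (chartPoly n R i).comp (subst n R i) = deh₀ n R i := by
    refine MvPolynomial.ringHom_ext (fun r => ?_) fun j => ?_
    · simp [chartPoly, subst, deh₀]
    · rcases Fin.eq_self_or_eq_succAbove i j with rfl | ⟨l, rfl⟩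
      · rw [deh₀_X_self]
        simp [chartPoly, subst]
      · simp [chartPoly, subst]
  refine ⟨?_, fun z => ?_⟩
  · have hu : IsUnit (subst n R i (X i)) := by simp [subst]
    let ψ : Away (CohB1.polyGrading n R) (X i : MvPolynomial (Fin (n + 1)) R) →+* MvPolynomial (Fin n) R :=
      (IsLocalization.Away.lift (S := Localization.Away (X i : MvPolynomial (Fin (n + 1)) R)) (X i) (g := subst n R i) hu).comp
        (algebraMap (Away (CohB1.polyGrading n R) (X i : MvPolynomial (Fin (n + 1)) R))
          (Localization.Away (X i : MvPolynomial (Fin (n + 1)) R)))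
    have hψ : ψ.comp (chartPoly n R i) = RingHom.id _ := by
      refine MvPolynomial.ringHom_ext (fun r => ?_) fun l => ?_
      · simp only [ψ, chartPoly, RingHom.comp_apply, eval₂Hom_C, HomogeneousLocalization.algebraMap_apply, val_cst,
          IsLocalization.Away.lift_eq, subst, RingHom.id_apply]
      · simp only [ψ, chartPoly, RingHom.comp_apply, eval₂Hom_X', HomogeneousLocalization.algebraMap_apply,
          val_deh₀_X, RingHom.id_apply]
        have h1 : Localization.mk (X (i.succAbove l) : MvPolynomial (Fin (n + 1)) R) (xpw n R i 1) *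
            algebraMap (MvPolynomial (Fin (n + 1)) R) (Localization.Away (X i : MvPolynomial (Fin (n + 1)) R)) (X i) =
            algebraMap (MvPolynomial (Fin (n + 1)) R) _ (X (i.succAbove l)) := by
          rw [Localization.mk_eq_mk']
          refine Eq.trans ?_ (IsLocalization.mk'_spec _ _ (xpw n R i 1))
          exact congrArg (fun t => _ * algebraMap _ _ t) (pow_one (X i : MvPolynomial (Fin (n + 1)) R)).symm
        have h2 := congrArg (IsLocalization.Away.lift (S := Localization.Away (X i : MvPolynomial (Fin (n + 1)) R))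
          (X i) hu) h1
        rw [map_mul, IsLocalization.Away.lift_eq, IsLocalization.Away.lift_eq] at h2
        simpa [subst] using h2
    exact fun a b hab => by
      have := congrArg ψ hab
      rwa [← RingHom.comp_apply, ← RingHom.comp_apply, hψ] at this
  · obtain ⟨p, rfl⟩ := deh₀_surjective n R i z
    exact ⟨subst n R i p, RingHom.congr_fun hfac p⟩

theorem smooth_cst (i : Fin (n + 1)) :
    (cst n R (X i : MvPolynomial (Fin (n + 1)) R)).Smooth := by
  have h : cst n R (X i : MvPolynomial (Fin (n + 1)) R) = (chartPoly n R i).comp MvPolynomial.C :=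
    RingHom.ext fun r => by simp [chartPoly]
  rw [h]
  refine RingHom.Smooth.stableUnderComposition _ _ ?_ (RingHom.Smooth.of_bijective (chartPoly_bijective n R i))
  exact RingHom.smooth_algebraMap.mpr ⟨inferInstance, inferInstance⟩

theorem smooth_toSpec : Smooth (CohB1.ProjSpace.toSpec n R) := by
  refine IsZariskiLocalAtSource.of_iSup_eq_top (P := @Smooth) (QCohLib.stdOpen n R) (QCohLib.iSup_stdOpen n R) fun i => ?_
  let X₀ : MvPolynomial (Fin (n + 1)) R := X i
  have hX : X₀ ∈ CohB1.polyGrading n R 1 := GradedCechLib.X_mem n R i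
  change Smooth ((Proj.basicOpen (CohB1.polyGrading n R) X₀).ι ≫ Proj.toSpecZero (CohB1.polyGrading n R) ≫
    Spec.map (CommRingCat.ofHom (algebraMap R (CohB1.polyGrading n R 0))))
  have e : (Proj.basicOpen (CohB1.polyGrading n R) X₀).ι =
      (Proj.basicOpenIsoSpec (CohB1.polyGrading n R) X₀ hX one_pos).hom ≫
        Proj.awayι (CohB1.polyGrading n R) X₀ hX one_pos := by
    rw [← Proj.basicOpenIsoSpec_inv_ι, Iso.hom_inv_id_assoc]
  rw [e, Category.assoc, Proj.awayι_toSpecZero_assoc, ← Spec.map_comp]
  have : Smooth (Spec.map (CommRingCat.ofHom (algebraMap R (CohB1.polyGrading n R 0)) ≫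
      CommRingCat.ofHom (HomogeneousLocalization.fromZeroRingHom (CohB1.polyGrading n R) (Submonoid.powers X₀)))) :=
    (HasRingHomProperty.Spec_iff (P := @Smooth)).2 (smooth_cst n R i)
  infer_instance

end GenusZeroLib

end
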