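import Groth.Agent.GenusZeroLib.Line

/-!
# A pencil of degree one forces genus zero
-/

set_option autoImplicit false
universe u

open CategoryTheory CategoryTheory.Limits AlgebraicGeometry TopologicalSpace Opposite
open AmpleLib (shT GenAt GenOn res)
open TwistLib (genSet)
open AmpleThLib (pS tensorPow_isInvertible)

noncomputable section

namespace GenusZeroLib

variable (k : Type u) [Field k] {X : Scheme.{u}} [X.Over (Spec (CommRingCat.of k))]
  [IsProper (X ↘ Spec (CommRingCat.of k))] [IsIntegral X] (hdim : topologicalKrullDim X = 1)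
  {L : X.Modules} (hL : PicF.IsInvertible L) (hdeg : Curv2.deg k X L 1 = 1)

include hL hdeg in
/-- A module of degree one forces the global functions to be the constants. -/
theorem finrank_structure_dvd :
    Module.finrank k (Coh.HH X (Coh.structureModule X) 0) = 1 ∨
      ¬ ∀ M : X.Modules, PicF.IsInvertible M → (Module.finrank k (Coh.HH X (Coh.structureModule X) 0) : ℤ) ∣
        Curv2.euler k X M := by
  by_contra h
  push Not at h
  obtain ⟨hne, hdvd⟩ := h
  rw [Curv2.deg] at hdeg
  have h1 := (hdvd L hL).sub ((hdvd _ CurvLib.isInvertible_structureModule).mul_left ((1 : ℕ) : ℤ))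
  rw [hdeg] at h1
  exact hne (Nat.dvd_one.mp (Int.natCast_dvd_natCast.mp (by exact_mod_cast h1)))

include hdim in
/-- Euler characteristics are divisible by the degree of the field of constants. -/
theorem finrank_dvd_euler (M : X.Modules) (hM : PicF.IsInvertible M) :
    (Module.finrank k (Coh.HH X (Coh.structureModule X) 0) : ℤ) ∣ Curv2.euler k X M := by
  letI : Algebra k Γ(X, ⊤) := RingHom.toAlgebra (ρ k)
  let eO : Coh.HH X (Coh.structureModule X) 0 ≃ₗ[k] Γ(X, ⊤) :=
    { (DegPullLib.e0 (Coh.structureModule X)) with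
      map_smul' := fun r x => (DegPullLib.e0_smul (Coh.structureModule X) _ x).trans rfl }
  haveI := CurvLib.finite_HH (k := k)
    (CurvLib.isCoh_of_isInvertible (CurvLib.isInvertible_structureModule (X := X))) 0
  haveI : Module.Finite k Γ(X, ⊤) := Module.Finite.equiv eO
  haveI : Nonempty (⊤ : X.Opens) := ⟨⟨genericPoint X, trivial⟩⟩
  haveI : IsDomain Γ(X, ⊤) := IsIntegral.component_integral ⊤
  haveI : Algebra.IsIntegral k Γ(X, ⊤) := Algebra.IsIntegral.of_finite k _
  letI : Field Γ(X, ⊤) := (isField_of_isIntegral_of_isField' (Field.toIsField k)).toField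
  have key : ∀ n, Module.finrank k (Coh.HH X (Coh.structureModule X) 0) ∣ Module.finrank k (Coh.HH X M n) := by
    intro n
    letI : Module Γ(X, ⊤) (Coh.HH X M n) := inferInstanceAs (Module (Coh.Γtop X) (Coh.HH X M n))
    haveI : IsScalarTower k Γ(X, ⊤) (Coh.HH X M n) := ⟨fun a b c => mul_smul (α := Coh.Γtop X) (ρ k a) b c⟩
    exact ⟨_, by rw [eO.finrank_eq]; exact (Module.finrank_mul_finrank k Γ(X, ⊤) (Coh.HH X M n)).symm⟩
  rw [CurvLib.euler_curve (k := k) hdim M]
  exact (Int.natCast_dvd_natCast.mpr (key 0)).sub (Int.natCast_dvd_natCast.mpr (key 1))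

include hdim hL hdeg in
theorem finrank_structure_of_deg_one' : Module.finrank k (Coh.HH X (Coh.structureModule X) 0) = 1 :=
  (finrank_structure_dvd k hL hdeg).resolve_right (not_not_intro fun M hM => finrank_dvd_euler k hdim M hM)

include hdim hL hdeg in
/-- A pencil of degree one forces `H¹(O) = 0`. -/
theorem subsingleton_h1_of_pencil (h2 : 2 ≤ Module.finrank k (Coh.HH X L 0)) :
    Subsingleton (Coh.HH X (Coh.structureModule X) 1) := by
  have h0 := finrank_structure_of_deg_one' k hdim hL hdeg
  have hO := CurvLib.isInvertible_structureModule (X := X)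
  haveI := CurvLib.finite_HH (k := k) (CurvLib.isCoh_of_isInvertible hL) 0
  haveI := CurvLib.finite_HH (k := k) (CurvLib.isCoh_of_isInvertible hO) 1
  have hne : Nontrivial (Coh.HH X L 0) := by
    apply Module.nontrivial_of_finrank_pos (R := k)
    omega
  obtain ⟨z, hz⟩ := exists_ne (0 : Coh.HH X L 0)
  let s := DegPullLib.e0 L z
  have hs : s ≠ 0 := fun h => hz ((DegPullLib.e0 L).map_eq_zero_iff.mp h)
  let φ := QCohLib.unitHom L s
  have hφ : φ ≠ 0 := RRVanLib.unitHom_ne_zero hs
  haveI : Mono φ := CurvLib.mono_of_ne_zero hO hL hφ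
  obtain ⟨hQ, hdQ⟩ := CurvLib.cokernel_data (k := k) hO hL hdim hφ
  let S : ShortComplex X.Modules := ShortComplex.mk φ (cokernel.π φ) (cokernel.condition φ)
  have hS : S.ShortExact :=
    { exact := ShortComplex.exact_of_g_is_cokernel _ (cokernelIsCokernel φ)
      mono_f := inferInstanceAs (Mono φ)
      epi_g := inferInstanceAs (Epi (cokernel.π φ)) }
  haveI := CurvLib.isNoetherian k (X := X)
  haveI := CurvLib.finite_HH (k := k) hQ 0
  have hadd := CurvLib.euler_add_of_isCoh (k := k) hS (CurvLib.isCoh_of_isInvertible hO)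
    (CurvLib.isCoh_of_isInvertible hL) hQ
  change Curv2.euler k X L = Curv2.euler k X (Coh.structureModule X) + Curv2.euler k X (cokernel φ) at hadd
  rw [CurvLib.euler_eq_h0 (k := k) hQ hdQ] at hadd
  have hQ1 : Module.finrank k (Coh.HH X (cokernel φ) 0) = 1 := by
    rw [Curv2.deg] at hdeg
    push_cast at hdeg
    omega
  have hsurj : Function.Surjective (CurvLib.hMap (k := k) S.g 0) := by
    rw [← LinearMap.range_eq_top]
    refine Submodule.eq_top_of_finrank_eq (le_antisymm (Submodule.finrank_le _) ?_)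
    have hsum := LinearMap.finrank_range_add_finrank_ker (CurvLib.hMap (k := k) S.g 0)
    rw [← CurvLib.exact₂ hS 0, LinearMap.finrank_range_of_inj (CurvLib.injective₀ hS),
      show Module.finrank k (Coh.HH X S.X₁ 0) = 1 from h0] at hsum
    change Module.finrank k (Coh.HH X (cokernel φ) 0) ≤ _
    rw [hQ1]
    change 1 ≤ _
    have : 2 ≤ Module.finrank k (Coh.HH X S.X₂ 0) := h2
    omega
  obtain ⟨t, ht⟩ := exists_genAt_zeros_of_surjective k hdim hL hs hsurj
  have hVne : genSet hL s ≠ ⊤ := fun htop => by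
    have hi : IsIso φ := AmpleLib.isIso_unitHom s (TwistLib.genOn_of_genAt fun x _ => htop.ge (show x ∈ ⊤ from trivial))
    have he := CurvLib.euler_congr (k := k) (asIso φ)
    omega
  obtain ⟨x, hx⟩ : ∃ x : X, x ∉ genSet hL s := by
    by_contra h
    push Not at h
    exact hVne (eq_top_iff.mpr fun x _ => h x)
  -- the powers grow
  let a : ℕ → ℕ := fun n => Module.finrank k (Coh.HH X (CohB1.tensorPow L n) 0)
  have hstep : ∀ n, a n + 1 ≤ a (n + 1) := by
    intro n
    letI := kmod k (CohB1.tensorPow L n)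
    letI := kmod k (CohB1.tensorPow L (n + 1))
    haveI := CurvLib.finite_HH (k := k) (CurvLib.isCoh_of_isInvertible (tensorPow_isInvertible hL n)) 0
    haveI := CurvLib.finite_HH (k := k) (CurvLib.isCoh_of_isInvertible (tensorPow_isInvertible hL (n + 1))) 0
    haveI : Module.Finite k Γ(CohB1.tensorPow L (n + 1), ⊤) := Module.Finite.equiv (e0k k _)
    let Φ : Γ(CohB1.tensorPow L n, ⊤) →ₗ[k] Γ(CohB1.tensorPow L (n + 1), ⊤) :=
      { toFun := fun u => (shT u s : Γ(CohB1.tensorMod (CohB1.tensorPow L n) L, ⊤))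
        map_add' := fun u u' => shT_add_left u u' s
        map_smul' := fun r u => shT_smul_left (ρ k r) u s }
    have hinj : Function.Injective Φ := by
      rw [injective_iff_map_eq_zero]
      intro u hu
      have h := relation hL hs (σ := pS t n) (fun y hy => AmpleThLib.pS_genAt (ht y hy) n) (t := 0) (u := u) (by
        rw [shT_zero_right, zero_add]; exact hu)
      exact h.2 rfl
    have hlt : LinearMap.range Φ < ⊤ := by
      refine lt_top_iff_ne_top.mpr fun h => ?_
      obtain ⟨u, hu⟩ := h.ge (Submodule.mem_top (x := pS t (n + 1)))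
      have hgen : GenAt _ (pS t (n + 1)) (show x ∈ (⊤ : X.Opens) from trivial) := AmpleThLib.pS_genAt (ht x hx) _
      obtain ⟨U, e, hxU, he⟩ := TwistLib.exists_genOn (tensorPow_isInvertible hL n) x
      obtain ⟨U', g, hxU', hg⟩ := TwistLib.exists_genOn hL x
      let Z := U ⊓ U'
      obtain ⟨c, hc⟩ := ((he.res (inf_le_left : Z ≤ U)) Z le_rfl).2 (res _ le_top u)
      obtain ⟨b, hb⟩ := ((hg.res (inf_le_right : Z ≤ U')) Z le_rfl).2 (res _ le_top s)
      dsimp only at hc hb
      rw [AmpleLib.res_refl] at hc hb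
      have hxZ : x ∈ Z := ⟨hxU, hxU'⟩
      have h3 : res _ (le_top : Z ≤ ⊤) (pS t (n + 1)) =
          (c * b) • shT (res _ (inf_le_left : Z ≤ U) e) (res L (inf_le_right : Z ≤ U') g) := by
        rw [← AmpleLib.shT_smul, hc, hb, ← AmpleLib.shT_res]
        exact congrArg _ hu.symm
      rw [← AmpleLib.genAt_res (le_top : Z ≤ ⊤) _ hxZ, h3] at hgen
      replace hgen := (AmpleLib.genAt_smul_iff (M := CohB1.tensorMod (CohB1.tensorPow L n) L) _ _ hxZ
        ((AmpleThLib.shT_genOn (he.res inf_le_left) (hg.res inf_le_right)).genAt hxZ)).mp hgen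
      rw [Scheme.mem_basicOpen X _ x hxZ, map_mul] at hgen
      refine hx ?_
      have hbu := isUnit_of_mul_isUnit_right hgen
      change GenAt L s (show x ∈ (⊤ : X.Opens) from trivial)
      rw [← AmpleLib.genAt_res (le_top : Z ≤ ⊤) _ hxZ, ← hb, AmpleLib.genAt_smul_iff _ _ hxZ
        ((hg.res inf_le_right).genAt hxZ), Scheme.mem_basicOpen X _ x hxZ]
      exact hbu
    have h := Submodule.finrank_lt hlt.ne
    rw [LinearMap.finrank_range_of_inj hinj, ← (e0k k (CohB1.tensorPow L n)).finrank_eq,
      ← (e0k k (CohB1.tensorPow L (n + 1))).finrank_eq] at h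
    exact h
  have hgrow : ∀ n, n + 1 ≤ a n := by
    intro n
    induction n with
    | zero => exact h0.ge
    | succ n ih => exact le_trans (Nat.succ_le_succ ih) (hstep n)
  -- compare with Riemann-Roch
  let g := Curv2.genus k X
  have hdN : Curv2.deg k X (CohB1.tensorPow L (2 * g + 1)) 1 = ((2 * g + 1 : ℕ) : ℤ) := by
    rw [Curv2.deg, SerreVanLib.deg_pow (k := k) hdim hL, hdeg]
    push_cast
    ring
  haveI := RRVanLib.subsingleton_h1 (k := k) hdim h0 (tensorPow_isInvertible hL (2 * g + 1)) (by
    rw [hdN]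
    push_cast
    omega)
  have hχ := CurvLib.euler_curve (k := k) hdim (CohB1.tensorPow L (2 * g + 1))
  rw [RRVanLib.euler_eq_deg hdim h0, hdN,
    Module.finrank_zero_of_subsingleton (R := k) (M := Coh.HH X (CohB1.tensorPow L (2 * g + 1)) 1)] at hχ
  have := hgrow (2 * g + 1)
  have hg : g = 0 := by
    simp only [a, g] at this hχ ⊢
    push_cast at hχ
    omega
  exact (Module.finrank_zero_iff (R := k)).mp hg

end GenusZeroLib

end
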