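import Groth.Agent.GenusZeroLib.Point
import Groth.Agent.CohenLib.RegularField
import Groth.Agent.NormalLib.Regular
import Mathlib.AlgebraicGeometry.Morphisms.Smooth

/-!
# Rational points: residue fields and local rings
-/

set_option autoImplicit false
universe u

open CategoryTheory CategoryTheory.Limits AlgebraicGeometry TopologicalSpace

noncomputable section

namespace GenusZeroLib

variable {k : Type u} [Field k] {X : Scheme.{u}} [X.Over (Spec (CommRingCat.of k))]

/-- The base field maps isomorphically to the residue field of a rational point. -/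
theorem finrank_residueField_rational (w : Spec (CommRingCat.of k) ⟶ X) (hw : w ≫ (X ↘ Spec (CommRingCat.of k)) = 𝟙 _)
    (p : Spec (CommRingCat.of k)) :
    letI : Algebra k (X.residueField (w p)) := Curv2.resAlgebra k X (w p)
    Module.finrank k (X.residueField (w p)) = 1 := by
  letI : Algebra k (X.residueField (w p)) := Curv2.resAlgebra k X (w p)
  have hcomp : ∀ c : k, (w.residueFieldMap p).hom (Curv2.resMap k X (w p) c) =
      (Spec (CommRingCat.of k)).residue p ((Spec (CommRingCat.of k)).presheaf.germ ⊤ p trivial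
        ((Scheme.ΓSpecIso (CommRingCat.of k)).inv c)) := fun c => by
    change (w.residueFieldMap p) (X.residue (w p) _) = _
    rw [← CommRingCat.comp_apply, Scheme.residue_residueFieldMap, CommRingCat.comp_apply]
    refine congrArg _ ?_
    change w.stalkMap p (X.presheaf.germ ⊤ (w p) trivial ((X ↘ Spec (CommRingCat.of k)).appTop _)) = _
    rw [Scheme.Hom.germ_stalkMap_apply]
    refine congrArg _ ?_
    change ((X ↘ Spec (CommRingCat.of k)).appTop ≫ w.appTop) ((Scheme.ΓSpecIso (CommRingCat.of k)).inv c) = _
    rw [← Scheme.Hom.comp_appTop, hw, Scheme.Hom.id_appTop]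
    rfl
  have hsurj : Function.Surjective fun c : k => (Spec (CommRingCat.of k)).residue p
      ((Spec (CommRingCat.of k)).presheaf.germ ⊤ p trivial ((Scheme.ΓSpecIso (CommRingCat.of k)).inv c)) := by
    intro z
    obtain ⟨t, rfl⟩ := (Spec (CommRingCat.of k)).residue_surjective p z
    obtain ⟨U, hp, s, rfl⟩ := TopCat.Presheaf.exists_germ_eq (F := (Spec (CommRingCat.of k)).presheaf) t
    obtain rfl : U = ⊤ := eq_top_iff.mpr fun q _ => (Subsingleton.elim (α := PrimeSpectrum k) p q) ▸ hp
    exact ⟨(Scheme.ΓSpecIso (CommRingCat.of k)).hom s, by simp⟩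
  have hbij : Function.Bijective (algebraMap k (X.residueField (w p))) := by
    refine ⟨RingHom.injective _, fun z => ?_⟩
    obtain ⟨c, hc⟩ := hsurj ((w.residueFieldMap p).hom z)
    exact ⟨c, RingHom.injective (w.residueFieldMap p).hom ((hcomp c).trans hc)⟩
  exact (LinearEquiv.ofBijective (Algebra.linearMap k _) hbij).finrank_eq.symm.trans (Module.finrank_self k)

/-- A rational point is closed. -/
theorem isClosed_rational [IsSeparated (X ↘ Spec (CommRingCat.of k))] (w : Spec (CommRingCat.of k) ⟶ X)
    (hw : w ≫ (X ↘ Spec (CommRingCat.of k)) = 𝟙 _) (p : Spec (CommRingCat.of k)) : IsClosed ({w p} : Set X) := by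
  haveI : IsClosedImmersion (w ≫ (X ↘ Spec (CommRingCat.of k))) := by rw [hw]; infer_instance
  haveI : IsClosedImmersion w := IsClosedImmersion.of_comp w (X ↘ Spec (CommRingCat.of k))
  have h : Set.range w = {w p} := by
    refine Set.eq_singleton_iff_unique_mem.mpr ⟨⟨p, rfl⟩, ?_⟩
    rintro _ ⟨q, rfl⟩
    exact congrArg w (Subsingleton.elim (α := PrimeSpectrum k) q p)
  exact h ▸ w.isClosedEmbedding.isClosed_range

/-- The local ring at a smooth point is integrally closed. -/
theorem isIntegrallyClosed_of_mem_smoothLocus [IsLocallyNoetherian X]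
    [LocallyOfFinitePresentation (X ↘ Spec (CommRingCat.of k))] {x : X}
    (hx : x ∈ (X ↘ Spec (CommRingCat.of k)).smoothLocus) :
    IsRegularLocalRing (X.presheaf.stalk x) ∧ IsIntegrallyClosed (X.presheaf.stalk x) := by
  let f := X ↘ Spec (CommRingCat.of k)
  letI : Algebra k (X.presheaf.stalk x) := Curv2.stalkAlgebra k X x
  let j : k →+* (Spec (CommRingCat.of k)).presheaf.stalk (f x) :=
    ((Spec (CommRingCat.of k)).presheaf.germ ⊤ (f x) trivial).hom.comp
      (Scheme.ΓSpecIso (CommRingCat.of k)).inv.hom
  have hj : Function.Bijective j := by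
    refine ⟨RingHom.injective j, fun t => ?_⟩
    obtain ⟨U, hp, s, rfl⟩ := TopCat.Presheaf.exists_germ_eq (F := (Spec (CommRingCat.of k)).presheaf) t
    obtain rfl : U = ⊤ := eq_top_iff.mpr fun q _ => (Subsingleton.elim (α := PrimeSpectrum k) (f x) q) ▸ hp
    exact ⟨(Scheme.ΓSpecIso (CommRingCat.of k)).hom s, by simp [j]⟩
  have hcomp : (f.stalkMap x).hom.comp j = Curv2.stalkMap k X x := RingHom.ext fun c => by
    change f.stalkMap x ((Spec (CommRingCat.of k)).presheaf.germ ⊤ (f x) trivial _) = _
    rw [Scheme.Hom.germ_stalkMap_apply]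
    rfl
  haveI : Algebra.FormallySmooth k (X.presheaf.stalk x) := by
    have h : (Curv2.stalkMap k X x).FormallySmooth :=
      hcomp ▸ RingHom.FormallySmooth.comp (RingHom.FormallySmooth.of_bijective hj) (Scheme.Hom.mem_smoothLocus.mp hx)
    exact h
  haveI : IsRegularLocalRing (X.presheaf.stalk x) := CohenLib.isRegularLocalRing_of_formallySmooth (k := k)
  exact ⟨inferInstance, NormalLib.isIntegrallyClosed_of_isRegularLocalRing _⟩

end GenusZeroLib

end
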