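import Groth.Agent.EtSectLib.Main
import Groth.Agent.GeomRedFieldLib.Scheme
import Mathlib.RingTheory.Etale.Field
import Mathlib.AlgebraicGeometry.Morphisms.Etale
import Mathlib.FieldTheory.IsSepClosed

/-!
# Rational points over separably closed fields
-/

set_option autoImplicit false
universe u

open CategoryTheory CategoryTheory.Limits AlgebraicGeometry TopologicalSpace

namespace GenusZeroLib

variable {k : Type u} [Field k] [IsSepClosed k]

/-- A non-empty smooth scheme over a separably closed field has a rational point. -/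
theorem exists_rational_point_of_smooth {W : Scheme.{u}} (f : W ⟶ Spec (CommRingCat.of k)) [Smooth f] [Nonempty W] :
    ∃ w : Spec (CommRingCat.of k) ⟶ W, w ≫ f = 𝟙 _ := by
  obtain ⟨z⟩ := ‹Nonempty W›
  obtain ⟨S', g, s', hg, -, h, hh⟩ := EtSectLib.exists_section f (f z) ⟨z, rfl⟩
  obtain ⟨V, hV, hsV, -⟩ := exists_isAffineOpen_mem_and_subset (x := s') (U := ⊤) trivial
  obtain ⟨ψ, hψ⟩ : ∃ ψ : CommRingCat.of k ⟶ Γ(S', V), Spec.map ψ = hV.fromSpec ≫ g :=
    ⟨Spec.preimage _, Spec.map_preimage _⟩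
  have hψe : ψ.hom.Etale := by
    have : Etale (Spec.map ψ) := by rw [hψ]; infer_instance
    exact (HasRingHomProperty.Spec_iff (P := @Etale)).1 this
  letI : Algebra k Γ(S', V) := ψ.hom.toAlgebra
  haveI : Algebra.Etale k Γ(S', V) := hψe
  haveI : Nontrivial Γ(S', V) := by
    haveI : Nonempty V := ⟨⟨s', hsV⟩⟩
    infer_instance
  obtain ⟨I, _, Ai, _, _, e, hsep⟩ := (Algebra.FormallyEtale.iff_exists_algEquiv_prod k Γ(S', V)).mp
    inferInstance
  obtain ⟨i⟩ : Nonempty I := by
    by_contra hI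
    rw [not_nonempty_iff] at hI
    exact one_ne_zero (e.injective (Subsingleton.elim (e (1 : Γ(S', V))) (e 0)))
  haveI := hsep i
  let q : Γ(S', V) →ₐ[k] Ai i := (Pi.evalAlgHom k Ai i).comp e.toAlgHom
  let ek : k ≃ₐ[k] Ai i := AlgEquiv.ofBijective (Algebra.ofId k (Ai i))
    ⟨(algebraMap k (Ai i)).injective, IsSepClosed.algebraMap_surjective k (Ai i)⟩
  let r : Γ(S', V) ⟶ CommRingCat.of k := CommRingCat.ofHom (ek.symm.toAlgHom.comp q).toRingHom
  have hr : ψ ≫ r = 𝟙 _ := by
    refine CommRingCat.hom_ext (RingHom.ext fun c => ?_)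
    exact (ek.symm.toAlgHom.comp q).commutes c
  refine ⟨(Spec.map r ≫ hV.fromSpec) ≫ h, ?_⟩
  rw [Category.assoc, Category.assoc, hh, ← hψ, ← Spec.map_comp, hr, Spec.map_id]

/-- A point of the smooth locus gives a rational point in it. -/
theorem exists_rational_point_mem {X : Scheme.{u}} (f : X ⟶ Spec (CommRingCat.of k))
    [LocallyOfFinitePresentation f] (hd : (f.smoothLocus : Set X).Nonempty) :
    ∃ w : Spec (CommRingCat.of k) ⟶ X, w ≫ f = 𝟙 _ ∧ ∀ p, w p ∈ f.smoothLocus := by
  obtain ⟨x, hx⟩ := hd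
  haveI : Nonempty f.smoothLocus.toScheme := ⟨⟨x, hx⟩⟩
  haveI : Smooth (f.smoothLocus.ι ≫ f) := by
    refine Scheme.Hom.smoothLocus_eq_top_iff.mp (eq_top_iff.mpr fun p _ => ?_)
    rw [← Scheme.Hom.preimage_smoothLocus_eq]
    exact p.2
  obtain ⟨w, hw⟩ := exists_rational_point_of_smooth (f.smoothLocus.ι ≫ f)
  exact ⟨w ≫ f.smoothLocus.ι, by rw [Category.assoc, hw], fun p => (w p).2⟩

/-- A geometrically reduced scheme of finite type over a separably closed field has a rational point in its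
smooth locus. -/
theorem exists_rational_point {X : Scheme.{u}} (f : X ⟶ Spec (CommRingCat.of k)) [AlgebraicGeometry.IsReduced X]
    [LocallyOfFinitePresentation f] [GeometricallyReduced f] [Nonempty X] :
    ∃ w : Spec (CommRingCat.of k) ⟶ X, w ≫ f = 𝟙 _ ∧ ∀ p, w p ∈ f.smoothLocus :=
  exists_rational_point_mem f (GeomRedFieldLib.dense_smoothLocus_of_gr f).nonempty

end GenusZeroLib
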