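import Groth.Agent.GenusZeroLib.Degrees
import Groth.Agent.GenusZeroLib.RatData
import Groth.Agent.GenusZeroLib.Rational
import Groth.Agent.GenusZeroLib.Pencil
import Groth.Agent.GenusZeroLib.PSmooth
import Groth.Agent.GradedCechLib.Main
import Groth.Agent.CurvLib.Divisor

/-!
# Recognising the projective line
-/

set_option autoImplicit false
universe u

open CategoryTheory CategoryTheory.Limits AlgebraicGeometry TopologicalSpace
open MvPolynomial (eval)

noncomputable section

namespace GenusZeroLib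

variable (k : Type u) [Field k]

/-- A rational point of projective space. -/
theorem exists_section_projSpace (n : ℕ) :
    ∃ w : Spec (CommRingCat.of k) ⟶ CohB1.ProjSpace n k, w ≫ CohB1.ProjSpace.toSpec n k = 𝟙 _ := by
  let X₀ : MvPolynomial (Fin (n + 1)) k := MvPolynomial.X 0
  let hX : X₀ ∈ CohB1.polyGrading n k 1 := GradedCechLib.X_mem n k 0
  let e := RingEquiv.ofBijective (chartPoly n k 0) (chartPoly_bijective n k 0)
  let α : HomogeneousLocalization.Away (CohB1.polyGrading n k) X₀ →+* k :=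
    (eval (fun _ => (0 : k))).comp e.symm.toRingHom
  refine ⟨Spec.map (CommRingCat.ofHom α) ≫ Proj.awayι (CohB1.polyGrading n k) X₀ hX one_pos, ?_⟩
  change (Spec.map _ ≫ _) ≫ Proj.toSpecZero (CohB1.polyGrading n k) ≫ _ = _
  rw [Category.assoc, Proj.awayι_toSpecZero_assoc, ← Spec.map_comp, ← Spec.map_comp, ← Spec.map_id]
  congr 1
  refine CommRingCat.hom_ext (RingHom.ext fun r => ?_)
  change eval _ (e.symm (GradedCechLib.cst n k X₀ r)) = r
  rw [show GradedCechLib.cst n k X₀ r = e (MvPolynomial.C r) from by simp [e, chartPoly, X₀], e.symm_apply_apply]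
  simp

variable {k} {X : Scheme.{u}} [X.Over (Spec (CommRingCat.of k))]
  [IsProper (X ↘ Spec (CommRingCat.of k))] [IsIntegral X] (hdim : topologicalKrullDim X = 1)

include hdim in
/-- A rational point with normal local ring gives a module of degree one. -/
theorem realised_one_of_rational (w : Spec (CommRingCat.of k) ⟶ X)
    (hw : w ≫ (X ↘ Spec (CommRingCat.of k)) = 𝟙 _) (p : Spec (CommRingCat.of k))
    (hn : IsIntegrallyClosed (X.presheaf.stalk (w p))) :
    ∃ (L : X.Modules) (_ : PicF.IsInvertible L), Curv2.deg k X L 1 = 1 := by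
  have hc := isClosed_rational w hw p
  haveI := isDiscreteValuationRing_stalk k hdim hc hn
  obtain ⟨L, hL, -, h, -⟩ := exists_point_bundle (k := k) hdim hc
  exact ⟨L, hL, by rw [h, finrank_residueField_rational w hw p]; rfl⟩

include hdim in
/-- A rational point with normal local ring and `H¹(O) = 0`: the projective line. -/
theorem exists_iso_of_rational (h1 : Subsingleton (Coh.HH X (Coh.structureModule X) 1))
    (w : Spec (CommRingCat.of k) ⟶ X) (hw : w ≫ (X ↘ Spec (CommRingCat.of k)) = 𝟙 _)
    (p : Spec (CommRingCat.of k)) (hn : IsIntegrallyClosed (X.presheaf.stalk (w p))) :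
    ∃ e : X ≅ CohB1.ProjSpace 1 k, e.hom ≫ CohB1.ProjSpace.toSpec 1 k = X ↘ (Spec (CommRingCat.of k)) := by
  obtain ⟨L, hL, hd⟩ := realised_one_of_rational hdim w hw p hn
  exact exists_iso_of_deg_one k hdim h1 hL hd

omit [IsIntegral X] [IsProper (X ↘ Spec (CommRingCat.of k))] in
theorem smooth_of_iso (e : X ≅ CohB1.ProjSpace 1 k)
    (he : e.hom ≫ CohB1.ProjSpace.toSpec 1 k = X ↘ (Spec (CommRingCat.of k))) :
    Smooth (X ↘ Spec (CommRingCat.of k)) := by
  haveI := smooth_toSpec 1 k
  rw [← he]
  infer_instance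

omit [IsProper (X ↘ Spec (CommRingCat.of k))] [IsIntegral X] in
theorem subsingleton_h1_of_iso (e : X ≅ CohB1.ProjSpace 1 k) :
    Subsingleton (Coh.HH X (Coh.structureModule X) 1) := by
  have : Coh.IsQCoh (Coh.structureModule X) := QCohLib.isQCoh_unit
  obtain ⟨E⟩ := QCohLib.nonempty_HH_push e.hom (Coh.structureModule X) 1
  have hi : IsIso (ClSub.unitToPush e.hom) := by
    rw [Scheme.Modules.Hom.isIso_iff_isIso_app]
    intro V
    exact (ConcreteCategory.isIso_iff_bijective _).mpr (ConcreteCategory.bijective_of_isIso (e.hom.app V))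
  have hP : Subsingleton (Coh.HH (CohB1.ProjSpace 1 k) (Coh.structureModule (CohB1.ProjSpace 1 k)) 1) :=
    GradedCechLib.subsingleton_HH_structure (n := 1) (R := k) 0
  have h : Subsingleton (Coh.HH (CohB1.ProjSpace 1 k) ((Coh.push e.hom).obj (Coh.structureModule X)) 1) := by
    let f := asIso (ClSub.unitToPush e.hom)
    have hs : Function.Surjective (Sheaf.H.map ((QCohLib.toAbF _).map f.hom) 1) := fun y =>
      ⟨Sheaf.H.map ((QCohLib.toAbF _).map f.inv) 1 y, by
        rw [← Sheaf.H.map_comp_apply, ← Functor.map_comp, f.inv_hom_id, CategoryTheory.Functor.map_id]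
        exact Sheaf.H.map_id_apply _⟩
    exact @Function.Surjective.subsingleton _ _ _ hP hs
  exact E.injective.subsingleton

include hdim in
theorem exists_pencil_of_iso (hn : ∀ x : X, IsIntegrallyClosed (X.presheaf.stalk x)) (e : X ≅ CohB1.ProjSpace 1 k)
    (he : e.hom ≫ CohB1.ProjSpace.toSpec 1 k = X ↘ (Spec (CommRingCat.of k))) :
    ∃ L : X.Modules, PicF.IsInvertible L ∧ Curv2.deg k X L 1 = 1 ∧ 2 ≤ Module.finrank k (Coh.HH X L 0) := by
  obtain ⟨w, hw⟩ := exists_section_projSpace k 1
  have hw' : (w ≫ e.inv) ≫ (X ↘ Spec (CommRingCat.of k)) = 𝟙 _ := by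
    rw [← he, Category.assoc, e.inv_hom_id_assoc, hw]
  obtain ⟨L, hL, hd⟩ := realised_one_of_rational hdim (w ≫ e.inv) hw' (IsLocalRing.closedPoint k) (hn _)
  refine ⟨L, hL, hd, ?_⟩
  have h1 := subsingleton_h1_of_iso e
  have h0 := finrank_structure_of_deg_one k hdim h1 hL hd
  have hg : Curv2.genus k X = 0 := genus_eq_zero k h1
  have := (CurvLib.genus_zero_deg_pos (k := k) hdim h0 hg hL (by omega)).1
  omega

end GenusZeroLib

end
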