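import Groth.Agent.GenusZeroLib.Divisor
import Mathlib.RingTheory.DiscreteValuationRing.TFAE

/-!
# Invertible modules of closed points with normal local rings
-/

set_option autoImplicit false
universe u

open CategoryTheory CategoryTheory.Limits AlgebraicGeometry TopologicalSpace Opposite
open AmpleLib (GenAt GenOn res)
open TwistLib (genSet)
open DevissLib

noncomputable section

namespace GenusZeroLib

variable {X : Scheme.{u}}

/-- Generators of `O` off the point inside the direct image. -/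
theorem triv_gen {U V : X.Opens} (hV : V ≤ U) (c : Γ(DiscExtLib.triv U, V))
    (hc : IsUnit (DiscExtLib.fn c)) : Function.Bijective fun r : Γ(X, V) => r • c := by
  have hle : V ≤ DiscExtLib.cut U V := (le_inf le_rfl hV).trans (DiscExtLib.le_cut U V)
  have h : Function.Bijective
      (X.presheaf.map (homOfLE (DiscExtLib.cut_le U V)).op : Γ(X, V) → Γ(X, DiscExtLib.cut U V)) := by
    refine Function.bijective_iff_has_inverse.mpr ⟨X.presheaf.map (homOfLE hle).op, fun r => ?_, fun r => ?_⟩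
    · exact (AmpleLib.res_res (Coh.structureModule X) (DiscExtLib.cut_le U V) hle r).trans
        (AmpleLib.res_refl (Coh.structureModule X) r)
    · exact (AmpleLib.res_res (Coh.structureModule X) hle (DiscExtLib.cut_le U V) r).trans
        (AmpleLib.res_refl (Coh.structureModule X) r)
  have e : (fun r : Γ(X, V) => r • c) = fun r =>
      (X.presheaf.map (homOfLE (DiscExtLib.cut_le U V)).op r * DiscExtLib.fn c : Γ(X, DiscExtLib.cut U V)) := rfl
  rw [e]
  exact hc.unit.mulRight.bijective.comp h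

variable {k : Type u} [Field k] [X.Over (Spec (CommRingCat.of k))]
  [IsProper (X ↘ Spec (CommRingCat.of k))] [IsIntegral X] (hdim : topologicalKrullDim X = 1)

omit [Field k] [X.Over (Spec (CommRingCat.of k))] [IsProper (X ↘ Spec (CommRingCat.of k))] [IsIntegral X] in
theorem ne_genericPoint_of_isClosed [IrreducibleSpace X] {x : X} (hdim : topologicalKrullDim X = 1)
    (hx : IsClosed ({x} : Set X)) : x ≠ genericPoint X := by
  intro h
  have huniv : (Set.univ : Set X) = {x} := by
    rw [h] at hx ⊢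
    exact (genericPoint_spec X).def.symm.trans hx.closure_eq
  haveI : Subsingleton X := ⟨fun a b => ((huniv ▸ Set.mem_univ a : a ∈ ({x} : Set X))).trans
    ((huniv ▸ Set.mem_univ b : b ∈ ({x} : Set X))).symm⟩
  have := topologicalKrullDim_zero_of_discreteTopology X
  rw [hdim] at this
  exact absurd this (by simp)

include k hdim in
variable (k) in
/-- A normal local ring at a closed point is a discrete valuation ring. -/
theorem isDiscreteValuationRing_stalk {x : X} (hx : IsClosed ({x} : Set X))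
    (hn : IsIntegrallyClosed (X.presheaf.stalk x)) : IsDiscreteValuationRing (X.presheaf.stalk x) := by
  haveI := CurvLib.isNoetherian k (X := X)
  haveI := CurveAmpLib.krullDimLE_stalk hdim.le x
  have hnf : ¬ IsField (X.presheaf.stalk x) := by
    intro hF
    refine ne_genericPoint_of_isClosed hdim hx ?_
    letI := hF.toField
    obtain ⟨p, hp⟩ : genericPoint X ∈ Set.range (X.fromSpecStalk x) := by
      rw [X.range_fromSpecStalk]; exact (genericPoint_spec X).specializes trivial
    have : p = IsLocalRing.closedPoint (X.presheaf.stalk x) :=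
      PrimeSpectrum.ext ((Ideal.eq_bot_of_prime p.asIdeal).trans (Ideal.eq_bot_of_prime _).symm)
    rw [← hp, this, X.fromSpecStalk_closedPoint]
  refine ((IsDiscreteValuationRing.TFAE (X.presheaf.stalk x) hnf).out 0 3 rfl rfl).mpr ?_
  refine ⟨hn, ⟨IsLocalRing.maximalIdeal _, ⟨fun h => hnf (IsLocalRing.isField_iff_maximalIdeal_eq.mpr h),
    inferInstance⟩, ?_⟩⟩
  rintro Q ⟨hQ, hQp⟩
  exact IsLocalRing.eq_maximalIdeal (Ring.krullDimLE_one_iff_of_noZeroDivisors.mp inferInstance Q hQ hQp)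

include k hdim in
variable (k) in
/-- A chart at a closed point with a uniformiser invertible off the point. -/
theorem exists_chart {x : X} (hx : IsClosed ({x} : Set X)) [IsDiscreteValuationRing (X.presheaf.stalk x)] :
    ∃ (D : X.Opens) (hxD : x ∈ D) (b : Γ(X, D)),
      IsLocalRing.maximalIdeal (X.presheaf.stalk x) = Ideal.span {X.presheaf.germ D x hxD b} ∧
      ∀ y ∈ D, y ≠ x → y ∈ X.basicOpen b := by
  obtain ⟨ϖ, hϖ⟩ := IsDiscreteValuationRing.exists_irreducible (X.presheaf.stalk x)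
  obtain ⟨O, hxO, b₀, rfl⟩ := TopCat.Presheaf.exists_germ_eq (F := X.presheaf) ϖ
  have hb0 : b₀ ≠ 0 := fun h => hϖ.ne_zero (by rw [h, map_zero])
  haveI : Nonempty O := ⟨⟨x, hxO⟩⟩
  have hne : (X.basicOpen b₀ : Set X).Nonempty := by
    by_contra h
    exact hb0 ((basicOpen_eq_bot_iff b₀).mp (Opens.ext (Set.not_nonempty_iff_eq_empty.mp h)))
  obtain ⟨hfin, hcl⟩ := SerreVanLib.proper_closed_finite k hdim (X.basicOpen b₀).2.isClosed_compl fun h => by
    obtain ⟨y, hy⟩ := hne
    exact (h.ge (Set.mem_univ y)) hy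
  let T : Set X := ((X.basicOpen b₀ : Set X)ᶜ) \ {x}
  have hT : IsClosed T := by
    rw [← Set.biUnion_of_singleton T]
    exact (hfin.subset Set.diff_subset).isClosed_biUnion fun y hy => hcl y hy.1
  let D : X.Opens := O ⊓ ⟨Tᶜ, hT.isOpen_compl⟩
  have hxD : x ∈ D := ⟨hxO, fun h => h.2 rfl⟩
  refine ⟨D, hxD, X.presheaf.map (homOfLE (inf_le_left : D ≤ O)).op b₀, ?_, fun y hy hne => ?_⟩
  · rw [TopCat.Presheaf.germ_res_apply]
    exact hϖ.maximalIdeal_eq
  · rw [Scheme.basicOpen_res]
    exact ⟨hy, not_not.mp fun h => hy.2 ⟨h, hne⟩⟩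

include hdim in
/-- The line bundle of a closed point, with its section and the functions with at most a simple pole there. -/
theorem exists_point_bundle_lift {x : X} (hx : IsClosed ({x} : Set X)) [IsDiscreteValuationRing (X.presheaf.stalk x)]
    {D : X.Opens} (hxD : x ∈ D) (b : Γ(X, D))
    (hb : IsLocalRing.maximalIdeal (X.presheaf.stalk x) = Ideal.span {X.presheaf.germ D x hxD b})
    (hbu : ∀ y ∈ D, y ≠ x → y ∈ X.basicOpen b) {U : X.Opens} (hU : (U : Set X) = ({x} : Set X)ᶜ) :
    letI : Algebra k (X.residueField x) := Curv2.resAlgebra k X x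
    ∃ (L : X.Modules) (hL : PicF.IsInvertible L) (s : Γ(L, ⊤)),
      Curv2.deg k X L 1 = Module.finrank k (X.residueField x) ∧ s ≠ 0 ∧ (∀ y, y ∈ genSet hL s ↔ y ≠ x) ∧
      ∀ (h : Γ(X, U)) (c : Γ(X, D)),
        X.presheaf.map (homOfLE (inf_le_left : D ⊓ U ≤ D)).op c =
          X.presheaf.map (homOfLE (inf_le_left : D ⊓ U ≤ D)).op b * X.presheaf.map (homOfLE (inf_le_right : D ⊓ U ≤ U)).op h →
        ∃ t : Γ(L, ⊤), res L (le_top : U ≤ ⊤) t = h • res L (le_top : U ≤ ⊤) s := by
  obtain rfl : U = ⟨({x} : Set X)ᶜ, hx.isOpen_compl⟩ := Opens.ext hU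
  let U : X.Opens := ⟨({x} : Set X)ᶜ, hx.isOpen_compl⟩
  have hub : IsUnit (X.presheaf.map (homOfLE (DiscExtLib.cut_le U D)).op b) := by
    have h : DiscExtLib.cut U D ≤ X.basicOpen b := fun y hy =>
      hbu y (DiscExtLib.cut_le U D hy) (DiscExtLib.cut_le_left U D hy)
    have h1 := (X.toRingedSpace.isUnit_res_basicOpen b).map (X.presheaf.map (homOfLE h).op).hom
    rw [show homOfLE (DiscExtLib.cut_le U D) = homOfLE h ≫ homOfLE (X.basicOpen_le b) from rfl, op_comp,
      X.presheaf.map_comp]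
    exact h1
  let E : Γ(DiscExtLib.triv U, D) := (↑hub.unit⁻¹ : Γ(X, DiscExtLib.cut U D))
  have hgen : ∀ (_ : PUnit.{u + 1}) (V : X.Opens) (_ : V ≤ U) (h : V ≤ D),
      Function.Bijective fun r : Γ(X, V) => r • res (DiscExtLib.triv U) h E := fun _ V hV h =>
    triv_gen hV _ ((hub.unit⁻¹).isUnit.map (X.presheaf.map (homOfLE (DiscExtLib.cut_mono U h)).op).hom)
  have hA : ∀ y ∈ U, ∃ O : X.Opens, y ∈ O ∧ O ≤ U ∧ ∃ g : Γ(DiscExtLib.triv U, O), GenOn _ g := fun y hy =>
    ⟨U, hy, le_rfl, (1 : Γ(X, DiscExtLib.cut U U)), fun V hV =>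
      triv_gen hV _ (isUnit_one.map (X.presheaf.map (homOfLE (DiscExtLib.cut_mono U hV)).op).hom)⟩
  have hcov : ∀ y : X, y ∈ U ∨ ∃ _ : PUnit.{u + 1}, y ∈ D := fun y => by
    by_cases h : y = x
    · exact Or.inr ⟨⟨⟩, h ▸ hxD⟩
    · exact Or.inl h
  obtain ⟨L, q, ε, hL, hqU, hε, hlift⟩ := DiscExtLib.exists_glue_module (ι := PUnit.{u + 1}) (D := fun _ => D)
    (A := DiscExtLib.triv U) (E := fun _ => E) hgen hcov (fun i j h => absurd (Subsingleton.elim i j) h) hA
  let c : Γ(X, ⊤ ⊓ D) := X.presheaf.map (homOfLE inf_le_right).op b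
  obtain ⟨t, ht, htc⟩ := hlift ⊤ (1 : Γ(X, DiscExtLib.cut U ⊤)) (fun _ => c) fun _ => by
    change X.presheaf.map (homOfLE (DiscExtLib.cut_mono U (inf_le_left : ⊤ ⊓ D ≤ ⊤))).op (1 : Γ(X, DiscExtLib.cut U ⊤)) =
      X.presheaf.map (homOfLE (DiscExtLib.cut_le U (⊤ ⊓ D))).op (X.presheaf.map (homOfLE inf_le_right).op b) *
        X.presheaf.map (homOfLE (DiscExtLib.cut_mono U (inf_le_right : ⊤ ⊓ D ≤ D))).op (↑hub.unit⁻¹ : Γ(X, DiscExtLib.cut U D))
    have e1 : X.presheaf.map (homOfLE (DiscExtLib.cut_le U (⊤ ⊓ D))).op (X.presheaf.map (homOfLE inf_le_right).op b) =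
        X.presheaf.map (homOfLE (DiscExtLib.cut_mono U (inf_le_right : ⊤ ⊓ D ≤ D))).op
          (X.presheaf.map (homOfLE (DiscExtLib.cut_le U D)).op b) :=
      (AmpleLib.res_res (Coh.structureModule X) inf_le_right (DiscExtLib.cut_le U (⊤ ⊓ D)) b).trans
        (AmpleLib.res_res (Coh.structureModule X) (DiscExtLib.cut_le U D)
          (DiscExtLib.cut_mono U (inf_le_right : ⊤ ⊓ D ≤ D)) b).symm
    rw [e1, ← map_mul, IsUnit.mul_val_inv, map_one, map_one]
  have hxT : x ∈ ⊤ ⊓ D := ⟨trivial, hxD⟩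
  have hg : Function.Bijective fun a : X.presheaf.stalk x => a • L.presheaf.germ D x hxD (ε ⟨⟩) :=
    (hε ⟨⟩).1.genAt hxD
  have htx : X.presheaf.germ D x hxD b • L.presheaf.germ D x hxD (ε ⟨⟩) = L.presheaf.germ ⊤ x trivial t := by
    have h1 := congrArg (L.presheaf.germ (⊤ ⊓ D) x hxT) (htc ⟨⟩)
    rw [AmpleLib.germ_res, AmpleLib.germ_smul, AmpleLib.germ_res, TopCat.Presheaf.germ_res_apply] at h1
    exact h1.symm
  have hgenU : GenOn L (res L (le_top : U ≤ ⊤) t) := fun V hV => by
    refine (Function.Bijective.of_comp_iff' (hqU V hV) _).mp ?_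
    have e : (q.app V ∘ fun r : Γ(X, V) => r • res L hV (res L (le_top : U ≤ ⊤) t)) = fun r : Γ(X, V) =>
        r • res (DiscExtLib.triv U) (le_top : V ≤ ⊤) (show Γ(DiscExtLib.triv U, ⊤) from (1 : Γ(X, DiscExtLib.cut U ⊤))) :=
      funext fun r => by
        refine (QCohLib.app_smul q V r _).trans (congrArg (r • ·) ?_)
        rw [AmpleLib.res_res]
        exact (QCohLib.app_map q (homOfLE le_top) t).trans (congrArg _ ht)
    rw [e]
    exact triv_gen hV _ (isUnit_one.map (X.presheaf.map (homOfLE (DiscExtLib.cut_mono U (le_top : V ≤ ⊤))).op).hom)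
  have hgs : ∀ y, y ≠ x → GenAt L t (show y ∈ (⊤ : X.Opens) from trivial) := fun y hy =>
    (AmpleLib.genAt_res le_top t (show y ∈ U from hy)).mp (hgenU.genAt hy)
  have hne : t ≠ 0 := fun h => by
    have hh := hgs _ (ne_genericPoint_of_isClosed hdim hx).symm
    rw [h] at hh
    exact SerreVanLib.zero_not_genAt hh
  have hb0 : ¬ IsUnit (X.presheaf.germ D x hxD b) := fun hu => by
    refine IsLocalRing.maximalIdeal.isMaximal (X.presheaf.stalk x) |>.ne_top ?_
    rw [hb, Ideal.span_singleton_eq_top]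
    exact hu
  refine ⟨L, hL, t, ?_, hne, fun y => ⟨fun hy h => ?_, hgs y⟩, fun h c hbh => ?_⟩
  rotate_left
  rotate_left
  · obtain ⟨t', ht', -⟩ := hlift ⊤ (X.presheaf.map (homOfLE (DiscExtLib.cut_le_left U ⊤)).op h)
      (fun _ => X.presheaf.map (homOfLE (inf_le_right : ⊤ ⊓ D ≤ D)).op c) fun _ => by
      change X.presheaf.map (homOfLE (DiscExtLib.cut_mono U (inf_le_left : ⊤ ⊓ D ≤ ⊤))).op
          (X.presheaf.map (homOfLE (DiscExtLib.cut_le_left U ⊤)).op h) =
        X.presheaf.map (homOfLE (DiscExtLib.cut_le U (⊤ ⊓ D))).op (X.presheaf.map (homOfLE inf_le_right).op c) *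
          X.presheaf.map (homOfLE (DiscExtLib.cut_mono U (inf_le_right : ⊤ ⊓ D ≤ D))).op (↑hub.unit⁻¹ : Γ(X, DiscExtLib.cut U D))
      have hW : DiscExtLib.cut U (⊤ ⊓ D) ≤ D ⊓ U :=
        le_inf ((DiscExtLib.cut_le U _).trans inf_le_right) (DiscExtLib.cut_le_left U _)
      have e2 := congrArg (X.presheaf.map (homOfLE hW).op) hbh
      rw [map_mul] at e2
      have eb : X.presheaf.map (homOfLE hW).op (X.presheaf.map (homOfLE (inf_le_left : D ⊓ U ≤ D)).op b) =
          X.presheaf.map (homOfLE (DiscExtLib.cut_mono U (inf_le_right : ⊤ ⊓ D ≤ D))).op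
            (X.presheaf.map (homOfLE (DiscExtLib.cut_le U D)).op b) :=
        (AmpleLib.res_res (Coh.structureModule X) inf_le_left hW b).trans
          (AmpleLib.res_res (Coh.structureModule X) (DiscExtLib.cut_le U D)
            (DiscExtLib.cut_mono U (inf_le_right : ⊤ ⊓ D ≤ D)) b).symm
      have ec : X.presheaf.map (homOfLE (DiscExtLib.cut_le U (⊤ ⊓ D))).op (X.presheaf.map (homOfLE inf_le_right).op c) =
          X.presheaf.map (homOfLE hW).op (X.presheaf.map (homOfLE (inf_le_left : D ⊓ U ≤ D)).op c) :=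
        (AmpleLib.res_res (Coh.structureModule X) inf_le_right (DiscExtLib.cut_le U (⊤ ⊓ D)) c).trans
          (AmpleLib.res_res (Coh.structureModule X) inf_le_left hW c).symm
      rw [ec, e2, eb, mul_right_comm, ← map_mul, IsUnit.mul_val_inv, map_one, one_mul]
      exact (AmpleLib.res_res (Coh.structureModule X) (DiscExtLib.cut_le_left U ⊤)
        (DiscExtLib.cut_mono U (inf_le_left : ⊤ ⊓ D ≤ ⊤)) h).trans
        (AmpleLib.res_res (Coh.structureModule X) (inf_le_right : D ⊓ U ≤ U) hW h).symm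
    refine ⟨t', (hqU U le_rfl).1 ?_⟩
    refine (QCohLib.app_map q (homOfLE (le_top : U ≤ ⊤)) t').trans ((congrArg _ ht').trans ?_)
    refine Eq.trans ?_ ((QCohLib.app_smul q U h _).trans (congrArg (h • ·)
      ((QCohLib.app_map q (homOfLE (le_top : U ≤ ⊤)) t).trans (congrArg _ ht)))).symm
    change X.presheaf.map (homOfLE (DiscExtLib.cut_mono U (le_top : U ≤ ⊤))).op
        (X.presheaf.map (homOfLE (DiscExtLib.cut_le_left U ⊤)).op h) =
      X.presheaf.map (homOfLE (DiscExtLib.cut_le U U)).op h *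
        X.presheaf.map (homOfLE (DiscExtLib.cut_mono U (le_top : U ≤ ⊤))).op (1 : Γ(X, DiscExtLib.cut U ⊤))
    rw [map_one, mul_one]
    exact AmpleLib.res_res (Coh.structureModule X) (DiscExtLib.cut_le_left U ⊤)
      (DiscExtLib.cut_mono U (le_top : U ≤ ⊤)) h
  · let φ := QCohLib.unitHom L t
    have hf1 : ∀ y : X, ((St y).map φ).hom
        ((Coh.structureModule X).presheaf.germ ⊤ y trivial (1 : Γ(X, ⊤))) = L.presheaf.germ ⊤ y trivial t := fun y => by
      refine (DerSch.stalkFunctor_map_germ y φ ⊤ trivial _).trans ?_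
      rw [QCohLib.unitHom_app, one_smul]
      exact AmpleLib.germ_res L _ t _
    have he := euler_eq_add_stalkDim (k := k) hdim CurvLib.isInvertible_structureModule hL
      (RRVanLib.unitHom_ne_zero hne : φ ≠ 0) (x := x) fun y hy z => by
        obtain ⟨r, hr⟩ := (hgs y hy).2 z
        exact ⟨r • (Coh.structureModule X).presheaf.germ ⊤ y trivial (1 : Γ(X, ⊤)),
          (((St y).map φ).hom.map_smul r _).trans ((congrArg (r • ·) (hf1 y)).trans hr)⟩
    rw [stalkDim_cokernel φ x _ ((AmpleLib.one_genOn (X := X) ⊤).genAt trivial) _ hg _ ((hf1 x).trans htx.symm),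
      finrank_quotient_span x hb] at he
    rw [Curv2.deg, he]
    push_cast
    ring
  · subst h
    obtain ⟨i, hi⟩ := (show GenAt L t (show y ∈ (⊤ : X.Opens) from trivial) from hy).2 (L.presheaf.germ D y hxD (ε ⟨⟩))
    dsimp only at hi
    rw [← htx, smul_smul] at hi
    exact hb0 (IsUnit.of_mul_eq_one_right _ (hg.1 (hi.trans (one_smul _ _).symm)))

include hdim in
/-- The line bundle of a closed point with a discrete valuation ring, with its section. -/
theorem exists_point_bundle {x : X} (hx : IsClosed ({x} : Set X)) [IsDiscreteValuationRing (X.presheaf.stalk x)] :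
    letI : Algebra k (X.residueField x) := Curv2.resAlgebra k X x
    ∃ (L : X.Modules) (hL : PicF.IsInvertible L) (s : Γ(L, ⊤)),
      Curv2.deg k X L 1 = Module.finrank k (X.residueField x) ∧ s ≠ 0 ∧ ∀ y, y ∈ genSet hL s ↔ y ≠ x := by
  obtain ⟨D, hxD, b, hb, hbu⟩ := exists_chart k hdim hx
  obtain ⟨L, hL, s, h1, h2, h3, -⟩ :=
    exists_point_bundle_lift (k := k) hdim hx hxD b hb hbu (U := ⟨({x} : Set X)ᶜ, hx.isOpen_compl⟩) rfl
  exact ⟨L, hL, s, h1, h2, h3⟩

include hdim in
/-- The inverse line bundle of a closed point, mapping to the structure sheaf. -/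
theorem exists_point_bundle_neg_hom {x : X} (hx : IsClosed ({x} : Set X)) [IsDiscreteValuationRing (X.presheaf.stalk x)] :
    letI : Algebra k (X.residueField x) := Curv2.resAlgebra k X x
    ∃ (L : X.Modules) (q : L ⟶ Coh.structureModule X), PicF.IsInvertible L ∧
      Curv2.deg k X L 1 = -(Module.finrank k (X.residueField x) : ℤ) ∧ q ≠ 0 := by
  obtain ⟨D, hxD, b, hb, hbu⟩ := exists_chart k hdim hx
  let U : X.Opens := ⟨({x} : Set X)ᶜ, hx.isOpen_compl⟩
  have hgen : ∀ (_ : PUnit.{u + 1}) (V : X.Opens) (_ : V ≤ U) (h : V ≤ D),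
      Function.Bijective fun r : Γ(X, V) => r • res (Coh.structureModule X) h b := fun _ V hV h => by
    have hle : V ≤ X.basicOpen b := fun y hy => hbu y (h hy) (hV hy)
    have h1 : IsUnit (X.presheaf.map (homOfLE h).op b) := by
      have := (X.toRingedSpace.isUnit_res_basicOpen b).map (X.presheaf.map (homOfLE hle).op).hom
      rw [show homOfLE h = homOfLE hle ≫ homOfLE (X.basicOpen_le b) from rfl, op_comp, X.presheaf.map_comp]
      exact this
    exact h1.unit.mulRight.bijective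
  have hcov : ∀ y : X, y ∈ U ∨ ∃ _ : PUnit.{u + 1}, y ∈ D := fun y => by
    by_cases h : y = x
    · exact Or.inr ⟨⟨⟩, h ▸ hxD⟩
    · exact Or.inl h
  obtain ⟨L, q, ε, hL, hqU, hε, -⟩ := DiscExtLib.exists_glue_module (ι := PUnit.{u + 1}) (D := fun _ => D)
    (A := Coh.structureModule X) (E := fun _ => b) hgen hcov (fun i j h => absurd (Subsingleton.elim i j) h)
    (fun y hy => ⟨U, hy, le_rfl, (1 : Γ(X, U)), AmpleLib.one_genOn U⟩)
  refine ⟨L, q, hL, ?_⟩
  have hfε : ((St x).map q).hom (L.presheaf.germ D x hxD (ε ⟨⟩)) =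
      X.presheaf.germ D x hxD b • (Coh.structureModule X).presheaf.germ ⊤ x trivial (1 : Γ(X, ⊤)) := by
    refine (DerSch.stalkFunctor_map_germ x q D hxD _).trans ?_
    rw [(hε ⟨⟩).2]
    have e : res (Coh.structureModule X) (le_top : D ≤ ⊤) (1 : Γ(X, ⊤)) = (1 : Γ(X, D)) :=
      map_one (X.presheaf.map (homOfLE (le_top : D ≤ ⊤)).op).hom
    rw [← AmpleLib.germ_res (Coh.structureModule X) (le_top : D ≤ ⊤) (1 : Γ(X, ⊤)) hxD, e, ← AmpleLib.germ_smul]
    exact congrArg _ (mul_one b).symm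
  have hq : q ≠ 0 := fun h0 => by
    have h2 : (b : Γ(X, D)) = 0 := by
      have := (hε ⟨⟩).2
      rw [h0] at this
      exact this.symm
    rw [h2, map_zero] at hb
    exact IsDiscreteValuationRing.not_a_field (X.presheaf.stalk x) (by rw [hb, Ideal.span_singleton_eq_bot])
  have he := euler_eq_add_stalkDim (k := k) hdim hL CurvLib.isInvertible_structureModule hq (x := x) fun y hy z => by
    obtain ⟨W, hyW, w, rfl⟩ := DevissLib.exists_gm_eq (Coh.structureModule X) y z
    obtain ⟨v, hv⟩ := (hqU (W ⊓ U) inf_le_right).2 (res (Coh.structureModule X) inf_le_left w)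
    refine ⟨DevissLib.gm L y (show y ∈ W ⊓ U from ⟨hyW, hy⟩) v, ?_⟩
    rw [DevissLib.gm_app, hv]
    exact AmpleLib.germ_res (Coh.structureModule X) inf_le_left w _
  rw [stalkDim_cokernel q x _ ((hε ⟨⟩).1.genAt hxD) _ ((AmpleLib.one_genOn (X := X) ⊤).genAt trivial) _ hfε,
    finrank_quotient_span x hb] at he
  refine ⟨?_, hq⟩
  rw [Curv2.deg, he]
  push_cast
  ring

include hdim in
/-- The inverse line bundle of a closed point with a discrete valuation ring. -/
theorem exists_point_bundle_neg {x : X} (hx : IsClosed ({x} : Set X)) [IsDiscreteValuationRing (X.presheaf.stalk x)] :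
    letI : Algebra k (X.residueField x) := Curv2.resAlgebra k X x
    ∃ L : X.Modules, PicF.IsInvertible L ∧ Curv2.deg k X L 1 = -(Module.finrank k (X.residueField x) : ℤ) := by
  obtain ⟨L, -, hL, hd, -⟩ := exists_point_bundle_neg_hom (k := k) hdim hx
  exact ⟨L, hL, hd⟩

end GenusZeroLib

end
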