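import Groth.Agent.GenusZeroLib.Zeros
import Groth.Agent.DiscExtLib.Main
import Groth.Agent.CurveAmpLib.Integral

/-!
# Invertible modules of closed points with discrete valuation rings
-/

set_option autoImplicit false
universe u

open CategoryTheory CategoryTheory.Limits AlgebraicGeometry TopologicalSpace Opposite
open AmpleLib (GenAt GenOn res)
open TwistLib (genSet)
open DevissLib

noncomputable section

namespace GenusZeroLib

variable {k : Type u} [Field k] {X : Scheme.{u}} [X.Over (Spec (CommRingCat.of k))]

/-- The stalk of the cokernel of a map of line bundles: functions modulo its local equation. -/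
theorem stalkDim_cokernel {N L : X.Modules} (φ : N ⟶ L) (x : X) (g₀ : (St x).obj N)
    (hg₀ : Function.Bijective fun c : X.presheaf.stalk x => c • g₀) (g : (St x).obj L)
    (hg : Function.Bijective fun c : X.presheaf.stalk x => c • g) (b : X.presheaf.stalk x)
    (hb : ((St x).map φ).hom g₀ = b • g) :
    letI : Algebra k (X.presheaf.stalk x) := Curv2.stalkAlgebra k X x
    CurvLib.stalkDim k (cokernel φ) x =
      Module.finrank k (X.presheaf.stalk x ⧸ Ideal.span ({b} : Set (X.presheaf.stalk x))) := by
  letI : Algebra k (X.presheaf.stalk x) := Curv2.stalkAlgebra k X x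
  let S : ShortComplex X.Modules := ShortComplex.mk φ (cokernel.π φ) (cokernel.condition φ)
  have hS : S.Exact := ShortComplex.exact_of_g_is_cokernel _ (cokernelIsCokernel φ)
  have hSx := (ShortComplex.moduleCat_exact_iff _).mp (hS.map (St x))
  let π := ((St x).map (cokernel.π φ)).hom
  let ψ : X.presheaf.stalk x →ₗ[X.presheaf.stalk x] (St x).obj (cokernel φ) :=
    π.comp (LinearMap.toSpanSingleton (X.presheaf.stalk x) _ g)
  have hπ : Function.Surjective π := (ModuleCat.epi_iff_surjective _).mp (inferInstanceAs (Epi ((St x).map (cokernel.π φ))))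
  have hψ : Function.Surjective ψ := fun q => by
    obtain ⟨m, rfl⟩ := hπ q
    obtain ⟨c, rfl⟩ := hg.2 m
    exact ⟨c, rfl⟩
  let f := ((St x).map φ).hom
  have hfc : ∀ d : X.presheaf.stalk x, f (d • g₀) = (d * b) • g := fun d =>
    (f.map_smul d _).trans ((congrArg (d • ·) hb).trans (mul_smul d b g).symm)
  have hker : LinearMap.ker ψ = Ideal.span ({b} : Set (X.presheaf.stalk x)) := by
    ext c
    rw [LinearMap.mem_ker, Ideal.mem_span_singleton']
    constructor
    · intro hc
      obtain ⟨a, ha⟩ := hSx (c • g) hc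
      obtain ⟨d, rfl⟩ := hg₀.2 a
      exact ⟨d, hg.1 ((hfc d).symm.trans ha)⟩
    · rintro ⟨d, rfl⟩
      change π ((d * b) • g) = 0
      rw [← hfc d]
      exact LinearMap.congr_fun (congrArg ModuleCat.Hom.hom (S.map (St x)).zero) _
  let e := (Submodule.quotEquivOfEq _ _ hker.symm).trans (ψ.quotKerEquivOfSurjective hψ)
  letI := CurvLib.stalkModule (k := k) (cokernel φ) x
  change Module.finrank k ((St x).obj (cokernel φ)) = _
  refine (LinearEquiv.finrank_eq ({ e.toAddEquiv with map_smul' := fun c z => ?_ } :
    (X.presheaf.stalk x ⧸ Ideal.span ({b} : Set (X.presheaf.stalk x))) ≃ₗ[k] (St x).obj (cokernel φ))).symm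
  exact (congrArg e (algebraMap_smul (X.presheaf.stalk x) c z).symm).trans (e.map_smul _ z)

variable [IsProper (X ↘ Spec (CommRingCat.of k))] [IsIntegral X] (hdim : topologicalKrullDim X = 1)

include hdim in
/-- The jump of Euler characteristics along a map of line bundles bijective away from a point. -/
theorem euler_eq_add_stalkDim {N L : X.Modules} (hN : PicF.IsInvertible N) (hL : PicF.IsInvertible L)
    {φ : N ⟶ L} (hφ : φ ≠ 0) {x : X} (hz : ∀ y, y ≠ x → Function.Surjective ((St y).map φ).hom) :
    Curv2.euler k X L = Curv2.euler k X N + CurvLib.stalkDim k (cokernel φ) x := by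
  haveI := CurvLib.isNoetherian k (X := X)
  haveI : Mono φ := CurvLib.mono_of_ne_zero hN hL hφ
  obtain ⟨hQ, hdQ⟩ := CurvLib.cokernel_data (k := k) hN hL hdim hφ
  let S : ShortComplex X.Modules := ShortComplex.mk φ (cokernel.π φ) (cokernel.condition φ)
  have hS : S.ShortExact :=
    { exact := ShortComplex.exact_of_g_is_cokernel _ (cokernelIsCokernel φ)
      mono_f := inferInstanceAs (Mono φ)
      epi_g := inferInstanceAs (Epi (cokernel.π φ)) }
  haveI := CurvLib.finite_HH (k := k) hQ 0
  have hadd := CurvLib.euler_add_of_isCoh (k := k) hS (CurvLib.isCoh_of_isInvertible hN)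
    (CurvLib.isCoh_of_isInvertible hL) hQ
  change Curv2.euler k X L = Curv2.euler k X N + Curv2.euler k X (cokernel φ) at hadd
  rw [CurvLib.euler_eq_h0 (k := k) hQ hdQ] at hadd
  obtain ⟨hT, hTc⟩ := CurvLib.finite_support_data k hQ hdQ
  have hsub : CohB1.support (cokernel φ) ⊆ {x} := by
    intro y hy
    by_contra hne
    obtain ⟨a, ha⟩ := (DevissLib.mem_support_iff_nonzero _ _).mp hy
    have hepi : Epi ((St y).map (cokernel.π φ)) := inferInstance
    obtain ⟨m, rfl⟩ := (ModuleCat.epi_iff_surjective _).mp hepi a
    obtain ⟨n, rfl⟩ := hz y hne m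
    exact ha (LinearMap.congr_fun (congrArg ModuleCat.Hom.hom (S.map (St y)).zero) n)
  have hTs : hT.toFinset ⊆ {x} := fun y hy => Finset.mem_singleton.mpr (hsub (hT.mem_toFinset.mp hy))
  rw [CurvLib.finrank_h0_eq_sum (k := k) (cokernel φ) hT hTc subset_rfl
      (fun y => CurvLib.finite_stalk (k := k) _ hT hTc subset_rfl y),
    Finset.sum_subset hTs fun y _ hy => ?_, Finset.sum_singleton] at hadd
  · exact hadd
  · have hyT : y ∉ CohB1.support (cokernel φ) := fun h => hy (hT.mem_toFinset.mpr h)
    haveI : Subsingleton ((St y).obj (cokernel φ)) := not_not.mp hyT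
    letI := CurvLib.stalkModule (k := k) (cokernel φ) y
    exact Module.finrank_zero_of_subsingleton

omit [IsProper (X ↘ Spec (CommRingCat.of k))] in
/-- The residue field as a quotient of the stalk, linearly. -/
theorem finrank_quotient_span (x : X) {ϖ : X.presheaf.stalk x}
    (hϖ : IsLocalRing.maximalIdeal (X.presheaf.stalk x) = Ideal.span {ϖ}) :
    letI : Algebra k (X.presheaf.stalk x) := Curv2.stalkAlgebra k X x
    letI : Algebra k (X.residueField x) := Curv2.resAlgebra k X x
    Module.finrank k (X.presheaf.stalk x ⧸ Ideal.span ({ϖ} : Set (X.presheaf.stalk x))) =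
      Module.finrank k (X.residueField x) := by
  letI : Algebra k (X.presheaf.stalk x) := Curv2.stalkAlgebra k X x
  letI : Algebra k (X.residueField x) := Curv2.resAlgebra k X x
  let e := Ideal.quotEquivOfEq hϖ.symm
  exact LinearEquiv.finrank_eq
    ({ e.toAddEquiv with map_smul' := fun c z => (by
        rw [Algebra.smul_def, Algebra.smul_def]
        exact map_mul e _ z) } :
      (X.presheaf.stalk x ⧸ Ideal.span ({ϖ} : Set (X.presheaf.stalk x))) ≃ₗ[k] X.residueField x)

end GenusZeroLib

end
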