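import Groth.Agent.GenusZeroLib.Zeros

/-!
# Multiplication of sections in genus zero
-/

set_option autoImplicit false
universe u

open CategoryTheory CategoryTheory.Limits AlgebraicGeometry TopologicalSpace Opposite
open AmpleLib (shT GenAt GenOn res)
open TwistLib (genSet)
open AmpleThLib (pS tensorPow_isInvertible)

noncomputable section

namespace GenusZeroLib

variable (k : Type u) [Field k] {X : Scheme.{u}} [X.Over (Spec (CommRingCat.of k))]

/-- constants as global functions -/
abbrev ρ : k →+* Γ(X, ⊤) := Coh.toGlobal (X ↘ Spec (CommRingCat.of k))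

/-- the `k`-structure on global sections -/
@[reducible] def kmod (M : X.Modules) : Module k Γ(M, ⊤) := Module.compHom _ (ρ k (X := X))

/-- `H⁰` and global sections, linearly -/
def e0k (M : X.Modules) : letI := kmod k M; Coh.HH X M 0 ≃ₗ[k] Γ(M, ⊤) :=
  letI := kmod k M
  { DegPullLib.e0 M with map_smul' := fun r x => DegPullLib.e0_smul M _ x }

variable [IsProper (X ↘ Spec (CommRingCat.of k))] [IsIntegral X] (hdim : topologicalKrullDim X = 1)
  (h0 : Module.finrank k (Coh.HH X (Coh.structureModule X) 0) = 1)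
  (h1 : Subsingleton (Coh.HH X (Coh.structureModule X) 1))
  {L : X.Modules} (hL : PicF.IsInvertible L) {d : ℕ} (hd : 0 < d) (hdeg : Curv2.deg k X L 1 = d)

include h0 in
theorem exists_const (c : Γ(X, ⊤)) : ∃ r : k, ρ k r = c := by
  letI := kmod k (Coh.structureModule X)
  have h : Module.finrank k Γ(Coh.structureModule X, ⊤) = 1 :=
    (e0k k (Coh.structureModule X)).finrank_eq.symm.trans h0
  haveI : Nonempty (⊤ : X.Opens) := ⟨⟨genericPoint X, trivial⟩⟩
  haveI : IsDomain Γ(X, ⊤) := IsIntegral.component_integral ⊤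
  obtain ⟨r, hr⟩ := (finrank_eq_one_iff_of_nonzero' (K := k)
    (show Γ(Coh.structureModule X, ⊤) from (1 : Γ(X, ⊤))) (show (1 : Γ(X, ⊤)) ≠ 0 from one_ne_zero)).mp h
    (show Γ(Coh.structureModule X, ⊤) from c)
  exact ⟨r, (mul_one _).symm.trans hr⟩

include h1 in
theorem genus_eq_zero : Curv2.genus k X = 0 := by
  rw [Curv2.genus]
  exact Module.finrank_zero_of_subsingleton

include hdim h0 h1 hL hdeg in
theorem finrank_pow (n : ℕ) :
    letI := kmod k (CohB1.tensorPow L n); Module.finrank k Γ(CohB1.tensorPow L n, ⊤) = n * d + 1 := by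
  letI := kmod k (CohB1.tensorPow L n)
  rw [← (e0k k (CohB1.tensorPow L n)).finrank_eq]
  have hd' : Curv2.deg k X (CohB1.tensorPow L n) 1 = (n * d : ℕ) := by
    rw [Curv2.deg, SerreVanLib.deg_pow (k := k) hdim hL n, hdeg]
    push_cast
    ring
  have := (CurvLib.genus_zero_deg_pos (k := k) hdim h0 (genus_eq_zero k h1)
    (tensorPow_isInvertible hL n) (by omega)).1
  omega

include hdim h0 h1 hL hdeg in
theorem finrank_sections : letI := kmod k L; Module.finrank k Γ(L, ⊤) = d + 1 := by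
  letI := kmod k L
  rw [← (e0k k L).finrank_eq]
  have := (CurvLib.genus_zero_deg_pos (k := k) hdim h0 (genus_eq_zero k h1) hL (by omega)).1
  omega

omit [X.Over (Spec (CommRingCat.of k))] [IsProper (X ↘ Spec (CommRingCat.of k))] in
lemma shT_smul_left {M N : X.Modules} {W : X.Opens} (r : Γ(X, W)) (m : Γ(M, W)) (n : Γ(N, W)) :
    shT (r • m) n = r • shT m n := by
  have := AmpleLib.shT_smul r 1 m n
  rwa [one_smul, mul_one] at this

omit [X.Over (Spec (CommRingCat.of k))] [IsProper (X ↘ Spec (CommRingCat.of k))] in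
lemma shT_smul_right {M N : X.Modules} {W : X.Opens} (r : Γ(X, W)) (m : Γ(M, W)) (n : Γ(N, W)) :
    shT m (r • n) = r • shT m n := by
  have := AmpleLib.shT_smul 1 r m n
  rwa [one_smul, one_mul] at this

omit [X.Over (Spec (CommRingCat.of k))] [IsProper (X ↘ Spec (CommRingCat.of k))] in
include hL in
/-- The relations between a section and one generating along its zeros are the trivial ones. -/
theorem relation {s : Γ(L, ⊤)} (hs : s ≠ 0) {n : ℕ} {σ : Γ(CohB1.tensorPow L n, ⊤)}
    (hσ : ∀ x : X, x ∉ genSet hL s → GenAt _ σ (show x ∈ (⊤ : X.Opens) from trivial))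
    {t : Γ(L, ⊤)} {u : Γ(CohB1.tensorPow L n, ⊤)}
    (h : shT σ t + shT u s = (0 : Γ(CohB1.tensorMod (CohB1.tensorPow L n) L, ⊤))) :
    (∃ c : Γ(X, ⊤), t = c • s) ∧ (t = 0 → u = 0) := by
  let hLn := tensorPow_isInvertible hL n
  let V := genSet hL s
  let W := genSet hLn σ
  have hVne : (V : Set X).Nonempty := ⟨_, genericPoint_mem_genSet hL hs⟩
  have hgs : ∀ Z : X.Opens, Z ≤ V → GenOn L (res L (le_top : Z ≤ ⊤) s) := fun Z hZ =>
    TwistLib.genOn_of_genAt fun x hx => (AmpleLib.genAt_res le_top s hx).mpr (hZ hx)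
  have hgσ : ∀ Z : X.Opens, Z ≤ W → GenOn _ (res (CohB1.tensorPow L n) (le_top : Z ≤ ⊤) σ) := fun Z hZ =>
    TwistLib.genOn_of_genAt fun x hx => (AmpleLib.genAt_res le_top σ hx).mpr (hZ hx)
  refine ⟨?_, fun ht => ?_⟩
  · obtain ⟨a, ha⟩ := (hgs V le_rfl V le_rfl).2 (res L le_top t)
    obtain ⟨b, hb⟩ := (hgσ W le_rfl W le_rfl).2 (res _ le_top u)
    dsimp only at ha hb
    rw [AmpleLib.res_res] at ha hb
    let Z := V ⊓ W
    let a' := X.presheaf.map (homOfLE (inf_le_left : Z ≤ V)).op a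
    let b' := X.presheaf.map (homOfLE (inf_le_right : Z ≤ W)).op b
    have ha' := congrArg (res L (inf_le_left : Z ≤ V)) ha
    have hb' := congrArg (res _ (inf_le_right : Z ≤ W)) hb
    rw [AmpleLib.res_smul, AmpleLib.res_res, AmpleLib.res_res] at ha' hb'
    have h2 := congrArg (res (CohB1.tensorMod (CohB1.tensorPow L n) L) (le_top : Z ≤ ⊤)) h
    have h3 : res (CohB1.tensorMod (CohB1.tensorPow L n) L) (le_top : Z ≤ ⊤) (shT σ t + shT u s) =
        (a' + b') • shT (res _ le_top σ) (res L le_top s) := by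
      refine (map_add _ _ _).trans ?_
      rw [add_smul, ← shT_smul_right, ← shT_smul_left]
      refine congrArg₂ (· + ·) ((AmpleLib.shT_res _ σ t).trans ?_) ((AmpleLib.shT_res _ u s).trans ?_)
      · exact congrArg (shT _) ha'.symm
      · exact congrArg (fun z => shT z _) hb'.symm
    have hab : a' + b' = 0 := by
      have hg := AmpleThLib.shT_genOn (hgσ Z inf_le_right) (hgs Z inf_le_left)
      refine (hg Z le_rfl).1 ?_
      dsimp only
      rw [AmpleLib.res_refl, zero_smul, ← h3, h2]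
      exact map_zero _
    have hcov : (⊤ : X.Opens) ≤ ⨆ p : ULift.{u} Bool, if p.down then W else V := fun x _ => by
      rw [Opens.mem_iSup]
      by_cases hx : x ∈ V
      · exact ⟨⟨false⟩, hx⟩
      · exact ⟨⟨true⟩, hσ x hx⟩
    let sec : ∀ p : ULift.{u} Bool, Γ(X, if p.down then W else V) := fun p =>
      match p with
      | ⟨true⟩ => -b
      | ⟨false⟩ => a
    obtain ⟨c, hc, -⟩ := X.sheaf.existsUnique_gluing'
      (fun p : ULift.{u} Bool => if p.down then W else V) ⊤ (fun _ => homOfLE le_top) hcov sec (by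
        rintro ⟨p⟩ ⟨q⟩
        cases p <;> cases q
        · rfl
        · change a' = X.presheaf.map (homOfLE (inf_le_right : Z ≤ W)).op (-b)
          rw [map_neg]
          exact eq_neg_of_add_eq_zero_left hab
        · change X.presheaf.map (homOfLE (inf_le_left : W ⊓ V ≤ W)).op (-b) =
            X.presheaf.map (homOfLE (inf_le_right : W ⊓ V ≤ V)).op a
          have h4 := congrArg (X.presheaf.map (homOfLE (le_inf inf_le_right inf_le_left : W ⊓ V ≤ Z)).op)
            (eq_neg_of_add_eq_zero_left hab)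
          simp only [a', b', map_neg] at h4
          rw [← CommRingCat.comp_apply, ← CommRingCat.comp_apply, ← X.presheaf.map_comp, ← X.presheaf.map_comp] at h4
          rw [map_neg]
          exact h4.symm
        · rfl)
    refine ⟨c, sub_eq_zero.mp (eq_zero_of_res hL (le_top : V ≤ ⊤) hVne _ ?_)⟩
    refine (map_sub _ _ _).trans (sub_eq_zero.mpr ?_)
    refine ha.symm.trans (Eq.trans ?_ (AmpleLib.res_smul L (le_top : V ≤ ⊤) c s).symm)
    exact congrArg (· • _) (show X.presheaf.map (homOfLE (le_top : V ≤ ⊤)).op c = a from hc ⟨false⟩).symm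
  · subst ht
    rw [shT_zero_right, zero_add] at h
    refine eq_zero_of_res hLn (le_top : V ≤ ⊤) hVne u (TwistLib.mod_ext _ fun x hx => ?_)
    obtain ⟨U, e, hxU, he⟩ := TwistLib.exists_genOn hLn x
    let Z := V ⊓ U
    obtain ⟨r, hr⟩ := ((he.res (inf_le_right : Z ≤ U)) Z le_rfl).2 (res _ le_top u)
    dsimp only at hr
    rw [AmpleLib.res_refl] at hr
    have h3 := congrArg (res (CohB1.tensorMod (CohB1.tensorPow L n) L) (le_top : Z ≤ ⊤)) h
    rw [AmpleLib.shT_res, ← hr, shT_smul_left] at h3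
    have hr0 : r = 0 := by
      have hg := AmpleThLib.shT_genOn (he.res (inf_le_right : Z ≤ U)) (hgs Z inf_le_left)
      refine (hg Z le_rfl).1 ?_
      dsimp only
      rw [AmpleLib.res_refl, zero_smul, h3]
      exact map_zero _
    rw [hr0, zero_smul] at hr
    have hxZ : x ∈ Z := ⟨hx, hxU⟩
    rw [AmpleLib.germ_res _ _ u hx, ← AmpleLib.germ_res _ (le_top : Z ≤ ⊤) u hxZ, ← hr, map_zero, map_zero]

include hdim h0 h1 hL hd hdeg in
/-- Every section of `L^(n+1)` is `σ t + u s`. -/
theorem mul_surjective {s : Γ(L, ⊤)} (hs : s ≠ 0) {n : ℕ} {σ : Γ(CohB1.tensorPow L n, ⊤)}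
    (hσ : ∀ x : X, x ∉ genSet hL s → GenAt _ σ (show x ∈ (⊤ : X.Opens) from trivial))
    (τ : Γ(CohB1.tensorPow L (n + 1), ⊤)) :
    ∃ (t : Γ(L, ⊤)) (u : Γ(CohB1.tensorPow L n, ⊤)),
      τ = (shT σ t + shT u s : Γ(CohB1.tensorMod (CohB1.tensorPow L n) L, ⊤)) := by
  letI := kmod k L
  letI := kmod k (CohB1.tensorPow L n)
  letI := kmod k (CohB1.tensorPow L (n + 1))
  have hfL := finrank_sections k hdim h0 h1 hL hdeg
  have hfn := finrank_pow k hdim h0 h1 hL hdeg n
  have hft := finrank_pow k hdim h0 h1 hL hdeg (n + 1)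
  haveI : Module.Finite k Γ(L, ⊤) := Module.finite_of_finrank_pos (hfL ▸ Nat.succ_pos _)
  haveI : Module.Finite k Γ(CohB1.tensorPow L n, ⊤) := Module.finite_of_finrank_pos (hfn ▸ Nat.succ_pos _)
  haveI : Module.Finite k Γ(CohB1.tensorPow L (n + 1), ⊤) :=
    Module.finite_of_finrank_pos (hft ▸ Nat.succ_pos _)
  let Φ : Γ(L, ⊤) × Γ(CohB1.tensorPow L n, ⊤) →ₗ[k] Γ(CohB1.tensorPow L (n + 1), ⊤) :=
    { toFun := fun p => (shT σ p.1 + shT p.2 s : Γ(CohB1.tensorMod (CohB1.tensorPow L n) L, ⊤))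
      map_add' := fun p q => by
        refine Eq.trans (congrArg₂ (· + ·) (shT_add_right σ p.1 q.1) (shT_add_left p.2 q.2 s)) ?_
        exact add_add_add_comm _ _ _ _
      map_smul' := fun r p => by
        refine Eq.trans (congrArg₂ (· + ·) (shT_smul_right (ρ k r) σ p.1) (shT_smul_left (ρ k r) p.2 s)) ?_
        exact (smul_add _ _ _).symm }
  let ψ : LinearMap.ker Φ →ₗ[k] Γ(L, ⊤) := (LinearMap.fst k _ _).comp (LinearMap.ker Φ).subtype
  have hψ : Function.Injective ψ := by
    rw [injective_iff_map_eq_zero]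
    rintro ⟨⟨t, u⟩, hp⟩ (ht : t = 0)
    obtain rfl := ht
    exact Subtype.ext (Prod.ext rfl ((relation hL hs hσ hp).2 rfl))
  have hle : Module.finrank k (LinearMap.ker Φ) ≤ 1 := by
    rw [← LinearMap.finrank_range_of_inj hψ]
    refine (Submodule.finrank_mono (t := Submodule.span k {s}) ?_).trans (finrank_span_singleton hs).le
    rintro _ ⟨⟨⟨t, u⟩, hp⟩, rfl⟩
    obtain ⟨c, hc⟩ := (relation hL hs hσ hp).1
    obtain ⟨r, hr⟩ := exists_const k h0 c
    exact Submodule.mem_span_singleton.mpr ⟨r, (congrArg (· • s) hr).trans hc.symm⟩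
  have hsum := LinearMap.finrank_range_add_finrank_ker Φ
  rw [Module.finrank_prod, hfL, hfn] at hsum
  have htop : LinearMap.range Φ = ⊤ := by
    refine Submodule.eq_top_of_finrank_eq (le_antisymm (Submodule.finrank_le _) ?_)
    rw [hft, Nat.succ_mul]
    omega
  obtain ⟨⟨t, u⟩, h⟩ := LinearMap.range_eq_top.mp htop τ
  exact ⟨t, u, h.symm⟩

end GenusZeroLib

end
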