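import Groth.Agent.GenusZeroLib.Point
import Groth.Agent.GenusZeroLib.RatData
import Groth.Agent.GenusZeroLib.Rational
import Groth.Agent.GenusZeroLib.Mult
import Groth.Agent.GeomRedFieldLib.Generic
import Mathlib.AlgebraicGeometry.AlgClosed.Basic

/-!
# Twisting down by a closed point
-/

set_option autoImplicit false
universe u

open CategoryTheory CategoryTheory.Limits AlgebraicGeometry TopologicalSpace Opposite
open AmpleLib (GenAt GenOn res)
open TwistLib (genSet)
open DevissLib

noncomputable section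

namespace GenusZeroLib

variable {X : Scheme.{u}}

/-- Sections with germs in the image of a submodule come from it. -/
theorem exists_app_eq_of {N L : X.Modules} (q : N ⟶ L) [Mono q] {W : X.Opens} (σ : Γ(L, W))
    (h : ∀ (y : X) (hy : y ∈ W), L.presheaf.germ W y hy σ ∈ LinearMap.range ((St y).map q).hom) :
    ∃ t : Γ(N, W), q.app W t = σ := by
  let S : ShortComplex X.Modules := ShortComplex.mk q (cokernel.π q) (cokernel.condition q)
  have hS : S.Exact := ShortComplex.exact_of_g_is_cokernel _ (cokernelIsCokernel q)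
  refine QCohLib.exists_of_app_eq_zero hS (inferInstanceAs (Mono q)) σ ?_
  refine TwistLib.mod_ext _ fun y hy => ?_
  rw [map_zero]
  refine (DerSch.stalkFunctor_map_germ y (cokernel.π q) W hy σ).symm.trans ?_
  obtain ⟨n, hn⟩ := h y hy
  refine (congrArg ((St y).map (cokernel.π q)).hom hn.symm).trans ?_
  exact LinearMap.congr_fun (congrArg ModuleCat.Hom.hom (S.map (St y)).zero) n

/-- The sections coming from a submodule that is everything away from `x` and the non-generators at `x`. -/
theorem exists_app_eq_iff {N L : X.Modules} (q : N ⟶ L) [Mono q] {x : X}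
    (hz : ∀ y, y ≠ x → Function.Surjective ((St y).map q).hom)
    (hx : ∀ z : (St x).obj L, z ∈ LinearMap.range ((St x).map q).hom ↔
      ¬ Function.Bijective fun c : X.presheaf.stalk x => c • z) (W : X.Opens) (σ : Γ(L, W)) :
    (∃ t : Γ(N, W), q.app W t = σ) ↔ ∀ h : x ∈ W, ¬ GenAt L σ h := by
  constructor
  · rintro ⟨t, rfl⟩ h
    exact (hx _).mp ⟨N.presheaf.germ W x h t, DerSch.stalkFunctor_map_germ x q W h t⟩
  · intro h
    refine exists_app_eq_of q σ fun y hy => ?_
    by_cases hyx : y = x
    · subst hyx; exact (hx _).mpr (h hy)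
    · exact hz y hyx _

variable {k : Type u} [Field k] [X.Over (Spec (CommRingCat.of k))]
  [IsProper (X ↘ Spec (CommRingCat.of k))] [IsIntegral X] (hdim : topologicalKrullDim X = 1)

include hdim in
/-- The twist down of a line bundle by a closed point with a discrete valuation ring. -/
theorem exists_twist_down {x : X} (hx : IsClosed ({x} : Set X)) [IsDiscreteValuationRing (X.presheaf.stalk x)]
    {M : X.Modules} (hM : PicF.IsInvertible M) :
    letI : Algebra k (X.residueField x) := Curv2.resAlgebra k X x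
    ∃ (L : X.Modules) (q : L ⟶ M), PicF.IsInvertible L ∧ q ≠ 0 ∧
      Curv2.deg k X L 1 = Curv2.deg k X M 1 - (Module.finrank k (X.residueField x) : ℤ) ∧
      ∀ (W : X.Opens) (σ : Γ(M, W)), (∃ t : Γ(L, W), q.app W t = σ) ↔ ∀ h : x ∈ W, ¬ GenAt M σ h := by
  obtain ⟨D₀, hxD₀, b₀, hb₀, hbu₀⟩ := exists_chart k hdim hx
  obtain ⟨W, e₀, hxW, he₀⟩ := TwistLib.exists_genOn hM x
  let D : X.Opens := D₀ ⊓ W
  have hxD : x ∈ D := ⟨hxD₀, hxW⟩
  let b : Γ(X, D) := X.presheaf.map (homOfLE (inf_le_left : D ≤ D₀)).op b₀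
  let e : Γ(M, D) := res M (inf_le_right : D ≤ W) e₀
  have he : GenOn M e := he₀.res _
  have hb : IsLocalRing.maximalIdeal (X.presheaf.stalk x) = Ideal.span {X.presheaf.germ D x hxD b} := by
    simp only [b, TopCat.Presheaf.germ_res_apply]
    exact hb₀
  have hbu : ∀ y ∈ D, y ≠ x → y ∈ X.basicOpen b := fun y hy hne => by
    simp only [b, Scheme.basicOpen_res]
    exact ⟨hy, hbu₀ y hy.1 hne⟩
  let U : X.Opens := ⟨({x} : Set X)ᶜ, hx.isOpen_compl⟩
  have hgen : ∀ (_ : PUnit.{u + 1}) (V : X.Opens) (_ : V ≤ U) (h : V ≤ D),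
      Function.Bijective fun r : Γ(X, V) => r • res M h (b • e) := fun _ V hV h => by
    have hle : V ≤ X.basicOpen b := fun y hy => hbu y (h hy) (hV hy)
    have h1 : IsUnit (X.presheaf.map (homOfLE h).op b) := by
      have := (X.toRingedSpace.isUnit_res_basicOpen b).map (X.presheaf.map (homOfLE hle).op).hom
      rw [show homOfLE h = homOfLE hle ≫ homOfLE (X.basicOpen_le b) from rfl, op_comp, X.presheaf.map_comp]
      exact this
    rw [AmpleLib.res_smul]
    simp only [smul_smul]
    exact (he V h).comp h1.unit.mulRight.bijective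
  have hcov : ∀ y : X, y ∈ U ∨ ∃ _ : PUnit.{u + 1}, y ∈ D := fun y => by
    by_cases h : y = x
    · exact Or.inr ⟨⟨⟩, h ▸ hxD⟩
    · exact Or.inl h
  obtain ⟨L, q, ε, hL, hqU, hε, -⟩ := DiscExtLib.exists_glue_module (ι := PUnit.{u + 1}) (D := fun _ => D)
    (A := M) (E := fun _ => b • e) hgen hcov (fun i j h => absurd (Subsingleton.elim i j) h)
    (fun y hy => by
      obtain ⟨V, g, hyV, hg⟩ := TwistLib.exists_genOn hM y
      exact ⟨V ⊓ U, ⟨hyV, hy⟩, inf_le_right, res M inf_le_left g, hg.res _⟩)
  have hfε : ((St x).map q).hom (L.presheaf.germ D x hxD (ε ⟨⟩)) =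
      X.presheaf.germ D x hxD b • M.presheaf.germ D x hxD e := by
    refine (DerSch.stalkFunctor_map_germ x q D hxD _).trans ?_
    rw [(hε ⟨⟩).2]
    exact AmpleLib.germ_smul _ _ _ _
  have hg := he.genAt hxD
  have hb0 : X.presheaf.germ D x hxD b ≠ 0 := fun h => by
    rw [h, Ideal.span_singleton_eq_bot.mpr rfl] at hb
    exact IsDiscreteValuationRing.not_a_field (X.presheaf.stalk x) hb
  have hq : q ≠ 0 := fun h0 => hb0 (hg.1 (by
    rw [h0] at hfε
    refine hfε.symm.trans ?_
    rw [Functor.map_zero]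
    exact (zero_smul _ _).symm))
  haveI : Mono q := CurvLib.mono_of_ne_zero hL hM hq
  have hz : ∀ y, y ≠ x → Function.Surjective ((St y).map q).hom := fun y hy z => by
    obtain ⟨W', hyW, w, rfl⟩ := DevissLib.exists_gm_eq M y z
    obtain ⟨v, hv⟩ := (hqU (W' ⊓ U) inf_le_right).2 (res M inf_le_left w)
    refine ⟨DevissLib.gm L y (show y ∈ W' ⊓ U from ⟨hyW, hy⟩) v, ?_⟩
    rw [DevissLib.gm_app, hv]
    exact AmpleLib.germ_res M inf_le_left w _
  refine ⟨L, q, hL, hq, ?_, fun W' σ => exists_app_eq_iff q hz (fun z => ?_) W' σ⟩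
  · have h1 := euler_eq_add_stalkDim (k := k) hdim hL hM hq hz
    rw [stalkDim_cokernel q x _ ((hε ⟨⟩).1.genAt hxD) _ hg _ hfε, finrank_quotient_span x hb] at h1
    simp only [Curv2.deg]
    rw [h1]
    ring
  · have key : ∀ c, ((St x).map q).hom (c • L.presheaf.germ D x hxD (ε ⟨⟩)) =
        (c * X.presheaf.germ D x hxD b) • M.presheaf.germ D x hxD e := fun c =>
      (((St x).map q).hom.map_smul c _).trans ((congrArg (c • ·) hfε).trans (mul_smul _ _ _).symm)
    obtain ⟨a, ha⟩ := hg.2 z
    dsimp only at ha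
    have hmem : a ∈ IsLocalRing.maximalIdeal (X.presheaf.stalk x) ↔
        ¬ Function.Bijective fun c : X.presheaf.stalk x => c • z := by
      rw [IsLocalRing.mem_maximalIdeal, mem_nonunits_iff, not_iff_not]
      constructor
      · intro hu
        rw [show (fun c : X.presheaf.stalk x => c • z) =
            (fun c : X.presheaf.stalk x => c • M.presheaf.germ D x hxD e) ∘ hu.unit.mulRight from
          _root_.funext fun c => (congrArg (c • ·) ha.symm).trans (mul_smul c a _).symm]
        exact hg.comp hu.unit.mulRight.bijective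
      · intro hbij
        obtain ⟨i, hi⟩ := hbij.2 (M.presheaf.germ D x hxD e)
        dsimp only at hi
        exact IsUnit.of_mul_eq_one_right i (hg.1 (((mul_smul i a _).trans (congrArg (i • ·) ha)).trans
          (hi.trans (one_smul _ _).symm)))
    rw [← hmem, hb, Ideal.mem_span_singleton']
    constructor
    · rintro ⟨n, rfl⟩
      obtain ⟨c, rfl⟩ := ((hε ⟨⟩).1.genAt hxD).2 n
      exact ⟨c, hg.1 ((key c).symm.trans ha.symm)⟩
    · rintro ⟨c, rfl⟩
      exact ⟨c • L.presheaf.germ D x hxD (ε ⟨⟩), (key c).trans ha⟩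

include hdim in
/-- Twisting down by a rational point: the effect on cohomology. -/
theorem exists_down_rational {x : X} (hx : IsClosed ({x} : Set X)) [IsDiscreteValuationRing (X.presheaf.stalk x)]
    (hr : letI : Algebra k (X.residueField x) := Curv2.resAlgebra k X x; Module.finrank k (X.residueField x) = 1)
    {M : X.Modules} (hM : PicF.IsInvertible M) :
    ∃ L : X.Modules, PicF.IsInvertible L ∧ Curv2.deg k X L 1 = Curv2.deg k X M 1 - 1 ∧
      Module.finrank k (Coh.HH X M 1) ≤ Module.finrank k (Coh.HH X L 1) ∧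
      Module.finrank k (Coh.HH X L 0) ≤ Module.finrank k (Coh.HH X M 0) ∧
      Module.finrank k (Coh.HH X M 0) ≤ Module.finrank k (Coh.HH X L 0) + 1 ∧
      ((∃ σ : Γ(M, ⊤), GenAt M σ (show x ∈ (⊤ : X.Opens) from trivial)) →
        Module.finrank k (Coh.HH X L 0) + 1 = Module.finrank k (Coh.HH X M 0)) ∧
      ((∀ σ : Γ(M, ⊤), ¬ GenAt M σ (show x ∈ (⊤ : X.Opens) from trivial)) →
        Module.finrank k (Coh.HH X L 0) = Module.finrank k (Coh.HH X M 0)) := by
  obtain ⟨L, q, hL, hq, hd, hrange⟩ := exists_twist_down (k := k) hdim hx hM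
  rw [hr] at hd
  letI := kmod k L
  letI := kmod k M
  haveI := CurvLib.finite_HH (k := k) (CurvLib.isCoh_of_isInvertible hL) 0
  haveI := CurvLib.finite_HH (k := k) (CurvLib.isCoh_of_isInvertible hM) 0
  haveI : Module.Finite k Γ(M, ⊤) := Module.Finite.equiv (e0k k M)
  let f : Γ(L, ⊤) →ₗ[k] Γ(M, ⊤) :=
    { toFun := fun t => q.app ⊤ t
      map_add' := fun a c => map_add (q.app ⊤).hom a c
      map_smul' := fun c t => Scheme.Modules.Hom.app_smul q (ρ k (X := X) c) t }
  haveI : Mono q := CurvLib.mono_of_ne_zero hL hM hq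
  have hf : Function.Injective f := QCohLib.app_injective_of_mono q ⊤
  have h1 := CurvLib.h1_le (k := k) hdim hL hM hq
  have hle := LinearMap.finrank_le_finrank_of_injective hf
  rw [← (e0k k L).finrank_eq, ← (e0k k M).finrank_eq] at hle
  have hup : Module.finrank k (Coh.HH X M 0) ≤ Module.finrank k (Coh.HH X L 0) + 1 := by
    have e1 := CurvLib.euler_curve (k := k) hdim L
    have e2 := CurvLib.euler_curve (k := k) hdim M
    simp only [Curv2.deg] at hd
    omega
  refine ⟨L, hL, by push_cast at hd; exact hd, h1, hle, hup, fun ⟨σ, hσ⟩ => ?_, fun hall => ?_⟩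
  · suffices hlt : Module.finrank k (Coh.HH X L 0) < Module.finrank k (Coh.HH X M 0) by omega
    rw [(e0k k L).finrank_eq, (e0k k M).finrank_eq, ← LinearMap.finrank_range_of_inj hf]
    refine Submodule.finrank_lt fun htop => ?_
    obtain ⟨t, ht⟩ := LinearMap.range_eq_top.mp htop σ
    exact (hrange ⊤ σ).mp ⟨t, ht⟩ trivial hσ
  · rw [(e0k k L).finrank_eq, (e0k k M).finrank_eq]
    exact (LinearEquiv.ofBijective f ⟨hf, fun σ => (hrange ⊤ σ).mpr fun _ => hall σ⟩).finrank_eq

include hdim in
/-- A rational point, smooth, in a given open. -/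
theorem exists_good_point [IsAlgClosed k] (V : X.Opens) (hV : (V : Set X).Nonempty) :
    ∃ x : X, x ∈ V ∧ IsClosed ({x} : Set X) ∧ IsDiscreteValuationRing (X.presheaf.stalk x) ∧
      (letI : Algebra k (X.residueField x) := Curv2.resAlgebra k X x; Module.finrank k (X.residueField x) = 1) := by
  let f := X ↘ Spec (CommRingCat.of k)
  haveI := CurvLib.isNoetherian k (X := X)
  haveI : LocallyOfFinitePresentation f := inferInstance
  haveI : IsIntegral (Spec (CommRingCat.of k)) := inferInstance
  haveI : PerfectField (Spec (CommRingCat.of k)).functionField := by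
    let K := (Spec (CommRingCat.of k)).functionField
    letI : Algebra k K := (((Spec (CommRingCat.of k)).presheaf.germ ⊤ (genericPoint (Spec (CommRingCat.of k))) trivial).hom.comp
      (Scheme.ΓSpecIso (CommRingCat.of k)).inv.hom).toAlgebra
    haveI : Algebra.IsAlgebraic k K := ⟨fun t => by
      obtain ⟨U, hp, s, rfl⟩ := TopCat.Presheaf.exists_germ_eq (F := (Spec (CommRingCat.of k)).presheaf) t
      obtain rfl : U = ⊤ := eq_top_iff.mpr fun q _ => (Subsingleton.elim (α := PrimeSpectrum k) _ q) ▸ hp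
      convert isAlgebraic_algebraMap (R := k) (A := K) ((Scheme.ΓSpecIso (CommRingCat.of k)).hom s) using 1
      simp [RingHom.algebraMap_toAlgebra, K]⟩
    exact Algebra.IsAlgebraic.perfectField (K := k)
  have hfield : IsField (X.presheaf.stalk (genericPoint X)) := GeomRedFieldLib.isField_stalk_generic rfl
  have hsm : genericPoint X ∈ f.smoothLocus := by
    refine GeomRedFieldLib.mem_smoothLocus_of_regular f _ (Subsingleton.elim (α := PrimeSpectrum k) _ _) ?_
    letI := hfield.toField
    infer_instance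
  let W : X.Opens := V ⊓ f.smoothLocus
  have hx₀ : genericPoint X ∈ W := ⟨((genericPoint_spec X).mem_open_set_iff V.2).mpr (by simpa using hV), hsm⟩
  haveI : Nonempty W.toScheme := ⟨⟨_, hx₀⟩⟩
  haveI : Smooth (W.ι ≫ f) := by
    refine Scheme.Hom.smoothLocus_eq_top_iff.mp (eq_top_iff.mpr fun p _ => ?_)
    rw [← Scheme.Hom.preimage_smoothLocus_eq]
    exact p.2.2
  obtain ⟨w, hw⟩ := exists_rational_point_of_smooth (W.ι ≫ f)
  have hw' : (w ≫ W.ι) ≫ f = 𝟙 _ := by rw [Category.assoc, hw]
  let p := (IsLocalRing.closedPoint k : Spec (CommRingCat.of k))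
  have hc := isClosed_rational (w ≫ W.ι) hw' p
  have hmem : (w ≫ W.ι) p ∈ W := (w p).2
  exact ⟨_, hmem.1, hc, isDiscreteValuationRing_stalk k hdim hc (isIntegrallyClosed_of_mem_smoothLocus hmem.2).2,
    finrank_residueField_rational (w ≫ W.ι) hw' p⟩

include hdim in
/-- Closed normal points over an algebraically closed field are rational discrete valuation points. -/
theorem closed_point_data [IsAlgClosed k] {x : X} (hx : IsClosed ({x} : Set X))
    (hn : IsIntegrallyClosed (X.presheaf.stalk x)) :
    IsDiscreteValuationRing (X.presheaf.stalk x) ∧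
      (letI : Algebra k (X.residueField x) := Curv2.resAlgebra k X x; Module.finrank k (X.residueField x) = 1) := by
  refine ⟨isDiscreteValuationRing_stalk k hdim hx hn, ?_⟩
  let w := pointOfClosedPoint (X ↘ Spec (CommRingCat.of k)) x hx
  have h := finrank_residueField_rational w (pointOfClosedPoint_comp _ x hx) (IsLocalRing.closedPoint k)
  rw [show w (IsLocalRing.closedPoint k) = x from pointOfClosedPoint_apply _ x hx _] at h
  exact h

end GenusZeroLib

end
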