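import Groth.Agent.RRVanLib.GG
import Groth.Agent.CurveAmpLib.Affine
import Groth.Agent.CurveAmpLib.FiniteSet
import Groth.Agent.FinPicLib.SemiLocal
import Groth.Agent.SerreVanLib.CurveAmple

/-!
# Sections generating along the zero locus of a section
-/

set_option autoImplicit false
universe u

open CategoryTheory CategoryTheory.Limits AlgebraicGeometry TopologicalSpace Opposite
open AmpleLib (shT GenAt GenOn res)
open TwistLib (genSet)
open DevissLib

noncomputable section

namespace GenusZeroLib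

variable {X : Scheme.{u}}

lemma shT_add_left {M N : X.Modules} {W : X.Opens} (m m' : Γ(M, W)) (n : Γ(N, W)) :
    shT (m + m') n = shT m n + shT m' n := by
  refine Eq.trans ?_ (KFlatLib.shApp_add M N W _ _)
  exact congrArg (KFlatLib.shApp M N W) (TensorProduct.add_tmul (R := Γ(X, W)) m m' n)

lemma shT_add_right {M N : X.Modules} {W : X.Opens} (m : Γ(M, W)) (n n' : Γ(N, W)) :
    shT m (n + n') = shT m n + shT m n' := by
  refine Eq.trans ?_ (KFlatLib.shApp_add M N W _ _)
  exact congrArg (KFlatLib.shApp M N W) (TensorProduct.tmul_add (R := Γ(X, W)) m n n')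

lemma shT_zero_left {M N : X.Modules} {W : X.Opens} (n : Γ(N, W)) :
    shT (0 : Γ(M, W)) n = (0 : Γ(CohB1.tensorMod M N, W)) := by
  have h := shT_add_left (0 : Γ(M, W)) 0 n
  rw [add_zero] at h
  exact left_eq_add.mp h

lemma shT_zero_right {M N : X.Modules} {W : X.Opens} (m : Γ(M, W)) :
    shT m (0 : Γ(N, W)) = (0 : Γ(CohB1.tensorMod M N, W)) := by
  have h := shT_add_right (N := N) m 0 0
  rw [add_zero] at h
  exact left_eq_add.mp h

/-- On an integral scheme a section of an invertible module vanishing on a nonempty open vanishes. -/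
theorem eq_zero_of_res [IsIntegral X] {M : X.Modules} (hM : PicF.IsInvertible M) {W V : X.Opens} (h : V ≤ W)
    (hne : (V : Set X).Nonempty) (σ : Γ(M, W)) (hσ : res M h σ = 0) : σ = 0 := by
  refine TwistLib.mod_ext M fun x hx => ?_
  obtain ⟨U, e, hxU, he⟩ := TwistLib.exists_genOn hM x
  obtain ⟨r, hr⟩ := (he (U ⊓ W) inf_le_left).2 (res M inf_le_right σ)
  dsimp only at hr
  have hη : genericPoint X ∈ V :=
    ((genericPoint_spec X).mem_open_set_iff V.2).mpr (by simpa using hne)
  have hηU : genericPoint X ∈ U :=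
    ((genericPoint_spec X).mem_open_set_iff U.2).mpr ⟨x, trivial, hxU⟩
  haveI : Nonempty (U ⊓ W : X.Opens) := ⟨⟨genericPoint X, hηU, h hη⟩⟩
  have hr0 : r = 0 := by
    have hle : (U ⊓ W) ⊓ V ≤ U ⊓ W := inf_le_left
    have h1 := congrArg (res M hle) hr
    rw [AmpleLib.res_smul, AmpleLib.res_res, AmpleLib.res_res] at h1
    have h2 : res M (hle.trans inf_le_right) σ = 0 := by
      rw [← AmpleLib.res_res M h (inf_le_right : (U ⊓ W) ⊓ V ≤ V), hσ]
      exact map_zero _
    have h3 := (he _ (hle.trans inf_le_left)).1 (a₁ := X.presheaf.map (homOfLE hle).op r) (a₂ := 0)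
      ((h1.trans h2).trans (zero_smul _ _).symm)
    have h4 := congrArg (X.presheaf.germ _ (genericPoint X) (show genericPoint X ∈ (U ⊓ W) ⊓ V from ⟨⟨hηU, h hη⟩, hη⟩)) h3
    rw [map_zero, TopCat.Presheaf.germ_res_apply] at h4
    exact germ_injective_of_isIntegral X (genericPoint X) (show genericPoint X ∈ U ⊓ W from ⟨hηU, h hη⟩) (h4.trans (map_zero _).symm)
  rw [← AmpleLib.germ_res M (inf_le_right : U ⊓ W ≤ W) σ ⟨hxU, hx⟩, ← hr, hr0, zero_smul, map_zero, map_zero]

/-- A nonzero section of an invertible module generates at the generic point. -/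
theorem genericPoint_mem_genSet [IsIntegral X] {M : X.Modules} (hM : PicF.IsInvertible M) {σ : Γ(M, ⊤)}
    (hσ : σ ≠ 0) : genericPoint X ∈ genSet hM σ := by
  obtain ⟨U, e, hη, he⟩ := TwistLib.exists_genOn hM (genericPoint X)
  obtain ⟨r, hr⟩ := AmpleThLib.exists_coeff σ he
  have hU : (U : Set X).Nonempty := ⟨_, hη⟩
  have hr0 : r ≠ 0 := fun h0 => hσ (eq_zero_of_res hM le_top hU σ (by rw [← hr, h0, zero_smul]))
  have hB := AmpleThLib.mem_genSet_coeff hM σ he hr
  have hne : (X.basicOpen r : Set X).Nonempty := by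
    by_contra h
    exact hr0 ((basicOpen_eq_bot_iff r).mp (Opens.ext (Set.not_nonempty_iff_eq_empty.mp h)))
  exact (hB.ge (((genericPoint_spec X).mem_open_set_iff (X.basicOpen r).2).mpr (by simpa using hne))).1

variable {k : Type u} [Field k] [X.Over (Spec (CommRingCat.of k))]
  [IsProper (X ↘ Spec (CommRingCat.of k))] [IsIntegral X] (hdim : topologicalKrullDim X = 1)

include k hdim in
variable (k) in
theorem finite_compl_genSet {M : X.Modules} (hM : PicF.IsInvertible M) {σ : Γ(M, ⊤)} (hσ : σ ≠ 0) :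
    ((genSet hM σ : Set X)ᶜ).Finite ∧ ∀ x ∈ (genSet hM σ : Set X)ᶜ, IsClosed ({x} : Set X) :=
  SerreVanLib.proper_closed_finite k hdim (genSet hM σ).2.isClosed_compl fun h =>
    (h.ge (Set.mem_univ (genericPoint X))) (genericPoint_mem_genSet hM hσ)

include k hdim in
variable (k) in
/-- A section generating along the zeros of `s`, when all sections of the cokernel lift. -/
theorem exists_genAt_zeros_of_surjective {L : X.Modules} (hL : PicF.IsInvertible L) {s : Γ(L, ⊤)} (hs : s ≠ 0)
    (hsurj : Function.Surjective (CurvLib.hMap (k := k) (cokernel.π (QCohLib.unitHom L s)) 0)) :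
    ∃ σ : Γ(L, ⊤), ∀ x : X, x ∉ genSet hL s → GenAt L σ (show x ∈ (⊤ : X.Opens) from trivial) := by
  haveI := CurvLib.isNoetherian k (X := X)
  haveI : X.IsSeparated := ⟨by rw [← terminal.comp_from (X ↘ Spec (CommRingCat.of k))]; infer_instance⟩
  let V := genSet hL s
  obtain ⟨hfin, hcl⟩ := finite_compl_genSet k hdim hL hs
  obtain ⟨T, hT, hFT⟩ := CurveAmpLib.exists_affine_of_finite hdim.le _ hfin
  obtain ⟨O, e, hFO, -, he⟩ := FinPicLib.exists_genOn_nhd hL ⟨T, hT⟩ hfin hFT fun a ha b hb hab => by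
    have h : b ∈ closure ({a} : Set X) := specializes_iff_mem_closure.mp hab
    rw [(hcl a ha).closure_eq] at h
    exact (Set.mem_singleton_iff.mp h).symm
  let φ := QCohLib.unitHom L s
  have hφ : φ ≠ 0 := RRVanLib.unitHom_ne_zero hs
  haveI : Mono φ := CurvLib.mono_of_ne_zero CurvLib.isInvertible_structureModule hL hφ
  let S : ShortComplex X.Modules := ShortComplex.mk φ (cokernel.π φ) (cokernel.condition φ)
  have hS : S.ShortExact :=
    { exact := ShortComplex.exact_of_g_is_cokernel _ (cokernelIsCokernel φ)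
      mono_f := inferInstanceAs (Mono φ)
      epi_g := inferInstanceAs (Epi (cokernel.π φ)) }
  let Q : X.Modules := cokernel φ
  let π : L ⟶ Q := cokernel.π φ
  -- sections over the locus of `s` die in the cokernel
  have hkill : ∀ (W : X.Opens), W ≤ V → ∀ t : Γ(L, W), π.app W t = 0 := by
    intro W hW t
    have hg : GenOn L (res L (le_top : V ≤ ⊤) s) :=
      TwistLib.genOn_of_genAt fun x hx => (AmpleLib.genAt_res le_top s hx).mpr hx
    obtain ⟨c, hc⟩ := (hg W hW).2 t
    dsimp only at hc
    rw [AmpleLib.res_res] at hc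
    rw [← hc]
    have h0 : (φ ≫ π).app W (show Γ(Coh.structureModule X, W) from c) = 0 := by
      rw [cokernel.condition]; rfl
    exact h0
  have hcov : (⊤ : X.Opens) ≤ ⨆ b : ULift.{u} Bool, if b.down then O else V := fun x _ => by
    rw [Opens.mem_iSup]
    by_cases hx : x ∈ V
    · exact ⟨⟨false⟩, hx⟩
    · exact ⟨⟨true⟩, hFO hx⟩
  let sec : ∀ b : ULift.{u} Bool, Γ(Q, if b.down then O else V) := fun b =>
    match b with
    | ⟨true⟩ => π.app O e
    | ⟨false⟩ => 0
  obtain ⟨q, hq, -⟩ := TopCat.Sheaf.existsUnique_gluing' (F := ⟨Q.presheaf, Q.isSheaf⟩)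
    (fun b : ULift.{u} Bool => if b.down then O else V) ⊤ (fun _ => homOfLE le_top) hcov sec (by
      rintro ⟨a⟩ ⟨b⟩
      cases a <;> cases b
      · rfl
      · change res Q (inf_le_left : V ⊓ O ≤ V) (0 : Γ(Q, V)) = res Q (inf_le_right : V ⊓ O ≤ O) (π.app O e)
        rw [show res Q (inf_le_left : V ⊓ O ≤ V) (0 : Γ(Q, V)) = 0 from map_zero _]
        exact ((QCohLib.app_map π (homOfLE (inf_le_right : V ⊓ O ≤ O)) e).symm.trans (hkill _ inf_le_left _)).symm
      · change res Q (inf_le_left : O ⊓ V ≤ O) (π.app O e) = res Q (inf_le_right : O ⊓ V ≤ V) (0 : Γ(Q, V))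
        rw [show res Q (inf_le_right : O ⊓ V ≤ V) (0 : Γ(Q, V)) = 0 from map_zero _]
        exact (QCohLib.app_map π (homOfLE (inf_le_left : O ⊓ V ≤ O)) e).symm.trans (hkill _ inf_le_right _)
      · rfl)
  -- lift to a section of `L`
  obtain ⟨z, hz⟩ : ∃ z : Coh.HH X L 0, CurvLib.hMap (k := k) S.g 0 z = (DegPullLib.e0 Q).symm q :=
    hsurj _
  refine ⟨DegPullLib.e0 L z, fun x hx => ?_⟩
  have hzq : π.app ⊤ (DegPullLib.e0 L z) = q := by
    refine (RRVanLib.e0_map (k := k) π z).symm.trans ?_
    rw [show CurvLib.hMap (k := k) π 0 z = (DegPullLib.e0 Q).symm q from hz]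
    exact (DegPullLib.e0 Q).apply_symm_apply q
  let σ := DegPullLib.e0 L z
  have hxO : x ∈ O := hFO hx
  have hqO : res Q (le_top : O ≤ ⊤) q = π.app O e := hq ⟨true⟩
  have hdiff : π.app O (res L le_top σ - e) = 0 := by
    rw [map_sub, show π.app O (res L le_top σ) = res Q le_top (π.app ⊤ σ) from QCohLib.app_map π (homOfLE le_top) σ,
      hzq, hqO, sub_self]
  -- exactness on the stalk at `x`
  have hSx := hS.map_of_exact (St x)
  obtain ⟨a, ha⟩ := (ShortComplex.moduleCat_exact_iff _).mp hSx.exact (gm L x hxO (res L le_top σ - e)) (by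
    change ((St x).map π).hom (gm L x hxO _) = 0
    rw [gm_app, hdiff]
    exact gm_zero Q x hxO)
  let g := L.presheaf.germ O x hxO e
  have hg : Function.Bijective fun c : X.presheaf.stalk x => c • g := he.genAt hxO
  obtain ⟨b, hb⟩ := hg.2 (L.presheaf.germ ⊤ x trivial s)
  dsimp only at hb
  have hbm : ¬ IsUnit b := fun hu => hx (by
    change Function.Bijective fun c : X.presheaf.stalk x => c • L.presheaf.germ ⊤ x trivial s
    rw [← hb]
    simp only [smul_smul]
    exact hg.comp hu.unit.mulRight.bijective)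
  let f := ((St x).map φ).hom
  have h1' := (AmpleLib.one_genOn (X := X) ⊤).genAt (x := x) (trivial : x ∈ (⊤ : X.Opens))
  obtain ⟨c, hc⟩ := h1'.2 a
  have hf1 : f ((Coh.structureModule X).presheaf.germ ⊤ x trivial (1 : Γ(X, ⊤))) =
      L.presheaf.germ ⊤ x trivial s := by
    refine (DerSch.stalkFunctor_map_germ x φ ⊤ trivial _).trans ?_
    rw [QCohLib.unitHom_app, one_smul]
    exact AmpleLib.germ_res L _ s _
  have hfa : f a = (c * b) • g := by
    rw [← hc]
    exact (f.map_smul c _).trans ((congrArg (c • ·) (hf1.trans hb.symm)).trans (mul_smul c b g).symm)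
  have hgσ : L.presheaf.germ ⊤ x trivial σ = (1 + c * b) • g := by
    have e1 : gm L x hxO (res L le_top σ - e) = (c * b) • g := ha.symm.trans hfa
    have e2 : gm L x hxO (res L le_top σ - e) = L.presheaf.germ ⊤ x trivial σ - g := by
      refine (map_sub (L.presheaf.germ O x hxO).hom _ _).trans ?_
      exact congrArg₂ (· - ·) (AmpleLib.germ_res L le_top σ hxO) rfl
    rw [add_smul, one_smul, ← e1, e2, add_sub_cancel]
  have hu : IsUnit (1 + c * b) := by
    have h := IsLocalRing.isUnit_one_sub_self_of_mem_nonunits (-(c * b)) (by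
      rw [mem_nonunits_iff, IsUnit.neg_iff]
      exact fun h => hbm (isUnit_of_mul_isUnit_right h))
    rwa [sub_neg_eq_add] at h
  change Function.Bijective fun r : X.presheaf.stalk x => r • L.presheaf.germ ⊤ x trivial σ
  rw [hgσ]
  simp only [smul_smul]
  exact hg.comp hu.unit.mulRight.bijective

include k hdim in
variable (k) in
/-- When `H¹(O) = 0` there is a section generating wherever a given one does not. -/
theorem exists_genAt_zeros (h1 : Subsingleton (Coh.HH X (Coh.structureModule X) 1)) {L : X.Modules}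
    (hL : PicF.IsInvertible L) {s : Γ(L, ⊤)} (hs : s ≠ 0) :
    ∃ σ : Γ(L, ⊤), ∀ x : X, x ∉ genSet hL s → GenAt L σ (show x ∈ (⊤ : X.Opens) from trivial) := by
  let φ := QCohLib.unitHom L s
  haveI : Mono φ :=
    CurvLib.mono_of_ne_zero CurvLib.isInvertible_structureModule hL (RRVanLib.unitHom_ne_zero hs)
  let S : ShortComplex X.Modules := ShortComplex.mk φ (cokernel.π φ) (cokernel.condition φ)
  have hS : S.ShortExact :=
    { exact := ShortComplex.exact_of_g_is_cokernel _ (cokernelIsCokernel φ)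
      mono_f := inferInstanceAs (Mono φ)
      epi_g := inferInstanceAs (Epi (cokernel.π φ)) }
  refine exists_genAt_zeros_of_surjective k hdim hL hs fun q => LinearMap.mem_range.mp ?_
  rw [show LinearMap.range (CurvLib.hMap (k := k) S.g 0) = LinearMap.ker (CurvLib.hDel (k := k) hS 0) from
    CurvLib.exact₃ hS 0, LinearMap.mem_ker]
  exact @Subsingleton.elim _ h1 _ _

end GenusZeroLib

end
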