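import Groth.Agent.GenusZeroLib.PointDown
import Groth.Agent.GenusZeroLib.Degrees
import Groth.Agent.GrTildeLib.TensLift
import Groth.Agent.CurvLib.Divisor

/-!
# The ideal sheaf of a closed point
-/

set_option autoImplicit false
universe u

open CategoryTheory CategoryTheory.Limits AlgebraicGeometry TopologicalSpace Opposite
open AmpleLib (GenAt GenOn res)
open TwistLib (genSet)
open DevissLib

noncomputable section

namespace GenusZeroLib

variable {X : Scheme.{u}} {P : X} (hP : IsClosed ({P} : Set X))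

/-- the ideal of a closed point -/
abbrev ptIdeal : X.IdealSheafData := Scheme.IdealSheafData.vanishingIdeal ⟨{P}, hP⟩

/-- Functions in the ideal of a point are those vanishing there. -/
theorem ptIdeal_app_eq_zero_iff {V : X.Opens} (b : Γ(X, V)) :
    (ClSub.toSubscheme (ptIdeal hP)).app V b = 0 ↔ P ∉ X.basicOpen b := by
  let i := (ptIdeal hP).subschemeι
  have hr : Set.range i = {P} := by
    rw [Scheme.IdealSheafData.range_subschemeι, Scheme.IdealSheafData.coe_support_vanishingIdeal]
    rfl
  show i.app V b = 0 ↔ _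
  constructor
  · intro h hb
    obtain ⟨q, hq⟩ : P ∈ Set.range i := hr ▸ rfl
    have h2 : q ∈ i ⁻¹ᵁ X.basicOpen b := by
      show i q ∈ X.basicOpen b
      rw [hq]; exact hb
    rw [Scheme.preimage_basicOpen, h, Scheme.basicOpen_zero] at h2
    exact h2
  · intro hb
    haveI : AlgebraicGeometry.IsReduced (ptIdeal hP).subscheme := DevissLib.isReduced_vanishingIdeal' _
    refine eq_zero_of_basicOpen_eq_bot _ ?_
    rw [← Scheme.preimage_basicOpen]
    refine eq_bot_iff.mpr fun q hq => hb ?_
    have hiq : i q = P := hr.le ⟨q, rfl⟩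
    rw [← hiq]
    exact hq

variable {k : Type u} [Field k] [X.Over (Spec (CommRingCat.of k))]
  [IsProper (X ↘ Spec (CommRingCat.of k))] [IsIntegral X] (hdim : topologicalKrullDim X = 1)
  [IsDiscreteValuationRing (X.presheaf.stalk P)]

include hdim in
theorem exists_idealMod_iso :
    letI : Algebra k (X.residueField P) := Curv2.resAlgebra k X P
    ∃ L : X.Modules, Nonempty (L ≅ ClSub.idealMod (ptIdeal hP)) ∧ PicF.IsInvertible L ∧
      Curv2.deg k X L 1 = -(Module.finrank k (X.residueField P) : ℤ) := by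
  obtain ⟨L, q, hL, hq, hd, hrange⟩ := exists_twist_down (k := k) hdim hP CurvLib.isInvertible_structureModule
  haveI : Mono q := CurvLib.mono_of_ne_zero hL CurvLib.isInvertible_structureModule hq
  have hgen : ∀ (V : X.Opens) (b : Γ(X, V)) (h : P ∈ V),
      GenAt (Coh.structureModule X) (show Γ(Coh.structureModule X, V) from b) h ↔ P ∈ X.basicOpen b := by
    intro V b h
    have h1 := AmpleLib.genAt_smul_iff b (show Γ(Coh.structureModule X, V) from (1 : Γ(X, V))) h
      ((AmpleLib.one_genOn V).genAt h)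
    refine Iff.trans ?_ h1
    exact Iff.of_eq (congrArg (fun z : Γ(X, V) => GenAt (Coh.structureModule X) (show Γ(Coh.structureModule X, V) from z) h)
      (mul_one b).symm)
  have h0 : q ≫ ClSub.toSubscheme (ptIdeal hP) = 0 := by
    refine Scheme.Modules.hom_ext _ _ fun V => ?_
    refine ConcreteCategory.hom_ext _ _ fun t => ?_
    refine (ptIdeal_app_eq_zero_iff hP _).mpr fun hb => ?_
    exact (hrange V _).mp ⟨t, rfl⟩ (X.basicOpen_le _ hb) ((hgen V _ _).mpr hb)
  let l : L ⟶ ClSub.idealMod (ptIdeal hP) := kernel.lift _ q h0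
  have hl : l ≫ ClSub.idealModι (ptIdeal hP) = q := kernel.lift_ι _ _ _
  haveI : Mono (ClSub.idealModι (ptIdeal hP)) := inferInstanceAs (Mono (kernel.ι _))
  haveI : Mono l := mono_of_mono_fac hl
  haveI : Epi l := by
    refine Preadditive.epi_of_cancel_zero _ fun {N : X.Modules} (g : ClSub.idealMod (ptIdeal hP) ⟶ N) hg => ?_
    refine Scheme.Modules.hom_ext _ _ fun V => ?_
    refine ConcreteCategory.hom_ext _ _ fun a => ?_
    have hab : ((ClSub.idealModι (ptIdeal hP)).app V ≫ (ClSub.toSubscheme (ptIdeal hP)).app V) a = 0 := by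
      rw [← Scheme.Modules.Hom.comp_app, show ClSub.idealModι (ptIdeal hP) ≫ ClSub.toSubscheme (ptIdeal hP) = 0 from
        kernel.condition _]
      rfl
    obtain ⟨t, ht⟩ := (hrange V ((ClSub.idealModι (ptIdeal hP)).app V a)).mpr fun h hgn =>
      (ptIdeal_app_eq_zero_iff hP _).mp hab ((hgen V _ h).mp hgn)
    have hta : l.app V t = a := QCohLib.app_injective_of_mono (ClSub.idealModι (ptIdeal hP)) V
      ((congrArg (fun f => f.app V t) hl).trans ht)
    rw [← hta]
    exact congrArg (fun f => f.app V t) hg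
  haveI : IsIso l := isIso_of_mono_of_epi l
  refine ⟨L, ⟨asIso l⟩, hL, ?_⟩
  rw [hd, Curv2.deg]
  push_cast
  ring

include hdim in
/-- Twisting by the ideal of a rational point: sections are those not generating at the point. -/
theorem finrank_h0_tensor_ptIdeal
    (hr : letI : Algebra k (X.residueField P) := Curv2.resAlgebra k X P; Module.finrank k (X.residueField P) = 1)
    {M : X.Modules} (hM : PicF.IsInvertible M) :
    ((∃ σ : Γ(M, ⊤), GenAt M σ (show P ∈ (⊤ : X.Opens) from trivial)) →
      Module.finrank k (Coh.HH X (CohB1.tensorMod M (ClSub.idealMod (ptIdeal hP))) 0) + 1 =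
        Module.finrank k (Coh.HH X M 0)) ∧
    ((∀ σ : Γ(M, ⊤), ¬ GenAt M σ (show P ∈ (⊤ : X.Opens) from trivial)) →
      Module.finrank k (Coh.HH X (CohB1.tensorMod M (ClSub.idealMod (ptIdeal hP))) 0) =
        Module.finrank k (Coh.HH X M 0)) := by
  obtain ⟨I, ⟨e⟩, hI, hId⟩ := exists_idealMod_iso (k := k) hP hdim
  obtain ⟨L, q, hL, hq, hd, hrange⟩ := exists_twist_down (k := k) hdim hP hM
  rw [hr] at hId hd
  haveI : Mono q := CurvLib.mono_of_ne_zero hL hM hq
  let ι : I ⟶ Coh.structureModule X := e.hom ≫ ClSub.idealModι (ptIdeal hP)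
  have hι : ∀ (V : X.Opens) (i : Γ(I, V)) (h : P ∈ V), P ∉ X.basicOpen (show Γ(X, V) from ι.app V i) := fun V i h => by
    refine (ptIdeal_app_eq_zero_iff hP _).mp ?_
    exact congrArg (fun f => f.app V (e.hom.app V i))
      (show ClSub.idealModι (ptIdeal hP) ≫ ClSub.toSubscheme (ptIdeal hP) = 0 from kernel.condition _)
  have hex : ∀ (V : X.Opens) (m : Γ(M, V)) (i : Γ(I, V)),
      ∃ t : Γ(L, V), q.app V t = (show Γ(X, V) from ι.app V i) • m := fun V m i =>
    (hrange V _).mpr fun h hgn => by
      obtain ⟨U, g, hgU, hg⟩ := TwistLib.exists_genOn hM P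
      let W : X.Opens := U ⊓ V
      obtain ⟨c, hc⟩ := (hg W inf_le_left).2 (res M inf_le_right m)
      dsimp only at hc
      have hPW : P ∈ W := ⟨hgU, h⟩
      have h1 : GenAt M (res M (inf_le_right : W ≤ V) ((show Γ(X, V) from ι.app V i) • m)) hPW :=
        (AmpleLib.genAt_res inf_le_right _ hPW).mpr hgn
      rw [AmpleLib.res_smul, ← hc, smul_smul,
        AmpleLib.genAt_smul_iff _ _ hPW ((hg.res inf_le_left).genAt hPW), X.basicOpen_mul] at h1
      have h2 : P ∈ X.basicOpen (X.presheaf.map (homOfLE (inf_le_right : W ≤ V)).op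
          (show Γ(X, V) from ι.app V i)) := h1.1
      rw [Scheme.basicOpen_res] at h2
      exact hι V i h h2.2
  choose b hb using hex
  have hinj : ∀ V, Function.Injective (q.app V) := fun V => QCohLib.app_injective_of_mono q V
  obtain ⟨φ, hφ⟩ := GrTildeLib.exists_tens_hom b
    (fun V m m' i => hinj V (by rw [map_add, hb, hb, hb, smul_add]))
    (fun V m i i' => hinj V (by
      rw [map_add, hb, hb, hb]
      exact (congrArg (fun z : Γ(X, V) => z • m) (map_add (ι.app V).hom i i')).trans (add_smul _ _ _)))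
    (fun V r m i => hinj V (by rw [QCohLib.app_smul, hb, hb, smul_smul, smul_smul, mul_comm]))
    (fun V r m i => hinj V (by
      rw [QCohLib.app_smul, hb, hb]
      exact (congrArg (fun z : Γ(X, V) => z • m) (QCohLib.app_smul ι V r i)).trans (mul_smul r _ m)))
    (fun V W h m i => hinj V (by
      refine (QCohLib.app_map q (homOfLE h) _).trans ?_
      rw [hb, hb]
      refine (AmpleLib.res_smul M h _ m).trans ?_
      exact congrArg (fun z : Γ(X, V) => z • res M h m) (QCohLib.app_map ι (homOfLE h) i).symm))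
  have hT : PicF.IsInvertible (CohB1.tensorMod M I) := AmpleThLib.shT_isInvertible hM hI
  have hTd : Curv2.deg k X (CohB1.tensorMod M I) 1 = Curv2.deg k X L 1 := by
    rw [deg_tensor k hdim hM hI, hd, hId]
    ring
  have hφ0 : φ ≠ 0 := by
    intro h0
    obtain ⟨U, g, hgU, hg⟩ := TwistLib.exists_genOn hM (genericPoint X)
    obtain ⟨U', g', hgU', hg'⟩ := TwistLib.exists_genOn hI (genericPoint X)
    let W : X.Opens := U ⊓ U'
    have h1 := hb W (res M inf_le_left g) (res I inf_le_right g')
    rw [← hφ, h0] at h1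
    have h2 : (show Γ(X, W) from ι.app W (res I inf_le_right g')) = 0 :=
      (hg W inf_le_left).1 (h1.symm.trans ((map_zero _).trans (zero_smul _ _).symm))
    haveI : Mono (ClSub.idealModι (ptIdeal hP)) := inferInstanceAs (Mono (kernel.ι _))
    haveI : Mono ι := mono_comp _ _
    have h3 : res I (inf_le_right : W ≤ U') g' = 0 :=
      QCohLib.app_injective_of_mono ι W (h2.trans (map_zero (ι.app W).hom).symm)
    have h4 := (hg'.res (inf_le_right : W ≤ U')).genAt (show genericPoint X ∈ W from ⟨hgU, hgU'⟩)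
    rw [h3] at h4
    exact one_ne_zero (h4.1 (a₁ := (1 : X.presheaf.stalk (genericPoint X))) (a₂ := 0) (by
      dsimp only
      rw [map_zero, smul_zero, zero_smul]))
  haveI : Mono φ := CurvLib.mono_of_ne_zero hT hL hφ0
  have e0 := CurvLib.euler_sub_eq_h0 (k := k) hT hL hdim hφ0
  obtain ⟨hQ, hQd⟩ := CurvLib.cokernel_data (k := k) hT hL hdim hφ0
  haveI : Epi φ := Abelian.epi_of_cokernel_π_eq_zero φ ((CurvLib.isZero_of_h0 (k := k) hQ hQd (by
    simp only [Curv2.deg] at hTd
    omega)).eq_of_tgt _ _)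
  haveI : IsIso φ := isIso_of_mono_of_epi φ
  have hh : Module.finrank k (Coh.HH X (CohB1.tensorMod M (ClSub.idealMod (ptIdeal hP))) 0) =
      Module.finrank k (Coh.HH X L 0) := by
    refine LinearEquiv.finrank_eq ?_
    exact ((CurvLib.hIso (k := k) ((CurvLib.tensorLeft' M).mapIso e) 0).symm).trans (CurvLib.hIso (k := k) (asIso φ) 0)
  letI := kmod k L
  letI := kmod k M
  haveI := CurvLib.finite_HH (k := k) (CurvLib.isCoh_of_isInvertible hL) 0
  haveI := CurvLib.finite_HH (k := k) (CurvLib.isCoh_of_isInvertible hM) 0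
  haveI : Module.Finite k Γ(M, ⊤) := Module.Finite.equiv (e0k k M)
  let f : Γ(L, ⊤) →ₗ[k] Γ(M, ⊤) :=
    { toFun := fun t => q.app ⊤ t
      map_add' := fun a c => map_add (q.app ⊤).hom a c
      map_smul' := fun c t => Scheme.Modules.Hom.app_smul q (ρ k (X := X) c) t }
  have hf : Function.Injective f := QCohLib.app_injective_of_mono q ⊤
  have hup : Module.finrank k (Coh.HH X M 0) ≤ Module.finrank k (Coh.HH X L 0) + 1 := by
    have h1 := CurvLib.h1_le (k := k) hdim hL hM hq
    have e1 := CurvLib.euler_curve (k := k) hdim L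
    have e2 := CurvLib.euler_curve (k := k) hdim M
    simp only [Curv2.deg] at hd
    omega
  refine ⟨fun ⟨σ, hσ⟩ => ?_, fun hall => ?_⟩
  · rw [hh]
    suffices hlt : Module.finrank k (Coh.HH X L 0) < Module.finrank k (Coh.HH X M 0) by omega
    rw [(e0k k L).finrank_eq, (e0k k M).finrank_eq, ← LinearMap.finrank_range_of_inj hf]
    refine Submodule.finrank_lt fun htop => ?_
    obtain ⟨t, ht⟩ := LinearMap.range_eq_top.mp htop σ
    exact (hrange ⊤ σ).mp ⟨t, ht⟩ trivial hσ
  · rw [hh, (e0k k L).finrank_eq, (e0k k M).finrank_eq]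
    exact (LinearEquiv.ofBijective f ⟨hf, fun σ => (hrange ⊤ σ).mpr fun _ => hall σ⟩).finrank_eq

end GenusZeroLib

end
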