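import Groth.Agent.GenusZeroLib.Apps
import Groth.Agent.CurveVBLib.Integral

/-!
# Two linearly equivalent rational points
-/

set_option autoImplicit false
universe u

open CategoryTheory CategoryTheory.Limits AlgebraicGeometry TopologicalSpace
open AmpleLib (GenAt GenOn res)
open TwistLib (genSet)

noncomputable section

namespace GenusZeroLib

variable {k : Type u} [Field k]

/-- Two sections through the same point are equal. -/
theorem section_ext {X : Scheme.{u}} (f : X ⟶ Spec (CommRingCat.of k)) (x y : Spec (CommRingCat.of k) ⟶ X)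
    (hx : x ≫ f = 𝟙 _) (hy : y ≫ f = 𝟙 _)
    (h : x (IsLocalRing.closedPoint k) = y (IsLocalRing.closedPoint k)) : x = y := by
  let e := Scheme.SpecToEquivOfField k X
  have key : ∀ (P : X) (φ ψ : X.residueField P ⟶ CommRingCat.of k),
      (Spec.map φ ≫ X.fromSpecResidueField P) ≫ f = 𝟙 _ → (Spec.map ψ ≫ X.fromSpecResidueField P) ≫ f = 𝟙 _ →
        φ = ψ := by
    intro P φ ψ hφ hψ
    obtain ⟨α, hα⟩ : ∃ α, Spec.map α = X.fromSpecResidueField P ≫ f := ⟨Spec.preimage _, Spec.map_preimage _⟩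
    rw [Category.assoc, ← hα, ← Spec.map_comp, ← Spec.map_id, Spec.map_inj] at hφ hψ
    refine CommRingCat.hom_ext (RingHom.ext fun z => ?_)
    have hz : α (φ z) = z := φ.hom.injective (RingHom.congr_fun (congrArg CommRingCat.Hom.hom hφ) (φ z))
    refine (congrArg φ hz.symm).trans (Eq.trans ?_ (congrArg ψ hz))
    exact (RingHom.congr_fun (congrArg CommRingCat.Hom.hom hφ) (φ z)).trans
      (RingHom.congr_fun (congrArg CommRingCat.Hom.hom hψ) (φ z)).symm
  apply e.injective
  refine Scheme.SpecToEquivOfField_eq_iff.mpr ⟨h, key _ _ _ ?_ ?_⟩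
  · exact (congrArg (· ≫ f) (e.symm_apply_apply x)).trans hx
  · refine Eq.trans ?_ ((congrArg (· ≫ f) (e.symm_apply_apply y)).trans hy)
    refine congrArg (· ≫ f) ?_
    rw [Spec.map_comp, Category.assoc, Scheme.residueFieldCongr_fromSpecResidueField]
    rfl

variable {C : Scheme.{u}}

/-- Vanishing in the image is vanishing along a closed immersion. -/
theorem imageι_app_eq_zero_iff {X : Scheme.{u}} (x : X ⟶ C) [IsClosedImmersion x] {V : C.Opens} (b : Γ(C, V)) :
    x.imageι.app V b = 0 ↔ x.app V b = 0 := by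
  have e : ∃ j : Γ(X, x ⁻¹ᵁ V) ⟶ Γ(X, x.toImage ⁻¹ᵁ (x.imageι ⁻¹ᵁ V)), IsIso j ∧
      x.toImage.app (x.imageι ⁻¹ᵁ V) (x.imageι.app V b) = j (x.app V b) := by
    refine ⟨X.presheaf.map (eqToHom (show x.toImage ⁻¹ᵁ (x.imageι ⁻¹ᵁ V) = x ⁻¹ᵁ V by
      rw [← Scheme.Hom.comp_preimage, x.toImage_imageι])).op, inferInstance, ?_⟩
    rw [← CommRingCat.comp_apply, ← Scheme.Hom.comp_app, Scheme.Hom.congr_app x.toImage_imageι]
    rfl
  obtain ⟨j, hj, e⟩ := e
  constructor
  · intro h
    rw [h, map_zero] at e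
    exact (ConcreteCategory.bijective_of_isIso j).1 (e.symm.trans (map_zero _).symm)
  · intro h
    rw [h, map_zero] at e
    exact (ConcreteCategory.bijective_of_isIso (x.toImage.app (x.imageι ⁻¹ᵁ V))).1 (e.trans (map_zero _).symm)

/-- Functions vanishing at the point lie in the ideal of a rational point. -/
theorem toSubscheme_app_eq_zero (x : Spec (CommRingCat.of k) ⟶ C) [IsClosedImmersion x] {V : C.Opens} (b : Γ(C, V))
    (hb : x (IsLocalRing.closedPoint k) ∉ C.basicOpen b) : (ClSub.toSubscheme x.ker).app V b = 0 := by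
  refine (imageι_app_eq_zero_iff x b).mpr ?_
  haveI : AlgebraicGeometry.IsReduced (Spec (CommRingCat.of k)) := inferInstance
  refine eq_zero_of_basicOpen_eq_bot _ ?_
  rw [← Scheme.preimage_basicOpen]
  refine eq_bot_iff.mpr fun q hq => hb ?_
  rw [show (IsLocalRing.closedPoint k : Spec (CommRingCat.of k)) = q from Subsingleton.elim (α := PrimeSpectrum k) _ _]
  exact hq

/-- Functions away from the point lie in its ideal. -/
theorem toSubscheme_app_eq_zero' (x : Spec (CommRingCat.of k) ⟶ C) [IsClosedImmersion x] {V : C.Opens}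
    (hV : x (IsLocalRing.closedPoint k) ∉ V) (b : Γ(C, V)) : (ClSub.toSubscheme x.ker).app V b = 0 :=
  toSubscheme_app_eq_zero x b fun h => hV (C.basicOpen_le b h)

/-- A section of the ideal of a point is not a unit there. -/
theorem not_mem_basicOpen_of_toSubscheme (x : Spec (CommRingCat.of k) ⟶ C) [IsClosedImmersion x] {V : C.Opens} (b : Γ(C, V))
    (hb : (ClSub.toSubscheme x.ker).app V b = 0) : x (IsLocalRing.closedPoint k) ∉ C.basicOpen b := by
  intro h
  have h0 : x.app V b = 0 := (imageι_app_eq_zero_iff x b).mp hb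
  have h2 : (IsLocalRing.closedPoint k : Spec (CommRingCat.of k)) ∈ x ⁻¹ᵁ C.basicOpen b := h
  rw [Scheme.preimage_basicOpen, h0, Scheme.basicOpen_zero] at h2
  exact h2

variable [C.Over (Spec (CommRingCat.of k))] [IsProper (C ↘ Spec (CommRingCat.of k))] [IsIntegral C]
  (hdim : topologicalKrullDim C = 1) (hn : ∀ z : C, IsIntegrallyClosed (C.presheaf.stalk z))

include hdim hn in
/-- Linearly equivalent rational points: a pencil of degree one. -/
theorem exists_pencil_of_linEquiv (x y : Spec (CommRingCat.of k) ⟶ C)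
    (hx : x ≫ (C ↘ Spec (CommRingCat.of k)) = 𝟙 _) (hy : y ≫ (C ↘ Spec (CommRingCat.of k)) = 𝟙 _) (hxy : x ≠ y)
    (φ : ClSub.idealMod x.ker ≅ ClSub.idealMod y.ker) :
    ∃ L : C.Modules, PicF.IsInvertible L ∧ Curv2.deg k C L 1 = 1 ∧ 2 ≤ Module.finrank k (Coh.HH C L 0) := by
  haveI : IsClosedImmersion x := by
    haveI : IsClosedImmersion (x ≫ (C ↘ Spec (CommRingCat.of k))) := by rw [hx]; infer_instance
    exact IsClosedImmersion.of_comp x (C ↘ Spec (CommRingCat.of k))
  haveI : IsClosedImmersion y := by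
    haveI : IsClosedImmersion (y ≫ (C ↘ Spec (CommRingCat.of k))) := by rw [hy]; infer_instance
    exact IsClosedImmersion.of_comp y (C ↘ Spec (CommRingCat.of k))
  let P := x (IsLocalRing.closedPoint k)
  let Q := y (IsLocalRing.closedPoint k)
  have hPQ : P ≠ Q := fun h => hxy (section_ext _ x y hx hy h)
  have hc : IsClosed ({P} : Set C) := isClosed_rational x hx _
  haveI := isDiscreteValuationRing_stalk k hdim hc (hn P)
  obtain ⟨D₀, hPD₀, b₀, hb₀, hbu₀⟩ := exists_chart k hdim hc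
  let U : C.Opens := ⟨({P} : Set C)ᶜ, hc.isOpen_compl⟩
  -- the composite of `φ` with the inclusion
  let ψ : ClSub.idealMod x.ker ⟶ Coh.structureModule C := φ.hom ≫ ClSub.idealModι y.ker
  let S : ShortComplex C.Modules := CurvLib.idealSeq x.ker
  have hS : S.ShortExact := CurvLib.idealSeq_shortExact x.ker
  obtain ⟨one, hone⟩ := QCohLib.exists_of_app_eq_zero hS.exact hS.mono_f (U := U) (1 : Γ(C, U))
    (toSubscheme_app_eq_zero' x (show P ∉ U from fun h => h rfl) _)
  obtain ⟨bI, hbI⟩ := QCohLib.exists_of_app_eq_zero hS.exact hS.mono_f (U := D₀) (b₀ : Γ(C, D₀))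
    (toSubscheme_app_eq_zero x b₀ fun h => by
      have h1 : Ideal.span {C.presheaf.germ D₀ P hPD₀ b₀} = ⊤ :=
        Ideal.span_singleton_eq_top.mpr ((C.mem_basicOpen b₀ P hPD₀).mp h)
      exact (IsLocalRing.maximalIdeal.isMaximal _).ne_top (hb₀.trans h1))
  -- the rational function
  let h : Γ(C, U) := ψ.app U one
  let c : Γ(C, D₀) := ψ.app D₀ bI
  have hker : (ClSub.toSubscheme y.ker).app U h = 0 := by
    have h1 : (ψ ≫ ClSub.toSubscheme y.ker).app U one = 0 := by
      rw [Category.assoc, show ClSub.idealModι y.ker ≫ ClSub.toSubscheme y.ker = 0 from kernel.condition _,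
        comp_zero]
      rfl
    exact h1
  have hQh : Q ∉ C.basicOpen h := not_mem_basicOpen_of_toSubscheme y h hker
  haveI : Mono (ClSub.idealModι x.ker) := hS.mono_f
  have hbh : C.presheaf.map (homOfLE (inf_le_left : D₀ ⊓ U ≤ D₀)).op c =
      C.presheaf.map (homOfLE (inf_le_left : D₀ ⊓ U ≤ D₀)).op b₀ * C.presheaf.map (homOfLE (inf_le_right : D₀ ⊓ U ≤ U)).op h := by
    have e1 : res (ClSub.idealMod x.ker) (inf_le_left : D₀ ⊓ U ≤ D₀) bI =
        C.presheaf.map (homOfLE (inf_le_left : D₀ ⊓ U ≤ D₀)).op b₀ • res (ClSub.idealMod x.ker) inf_le_right one := by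
      apply QCohLib.app_injective_of_mono (ClSub.idealModι x.ker)
      refine (QCohLib.app_map _ (homOfLE _) bI).trans ?_
      refine Eq.trans ?_ (QCohLib.app_smul _ _ _ _).symm
      refine (congrArg _ hbI).trans ?_
      refine Eq.trans ?_ (congrArg (_ • ·) ((QCohLib.app_map (ClSub.idealModι x.ker) (homOfLE _) one).trans
        (congrArg _ hone)).symm)
      refine Eq.trans (mul_one (M := Γ(C, D₀ ⊓ U)) _).symm ?_
      exact congrArg (fun t : Γ(C, D₀ ⊓ U) => C.presheaf.map (homOfLE (inf_le_left : D₀ ⊓ U ≤ D₀)).op b₀ * t)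
        (map_one (C.presheaf.map (homOfLE (inf_le_right : D₀ ⊓ U ≤ U)).op).hom).symm
    refine (QCohLib.app_map ψ (homOfLE (inf_le_left : D₀ ⊓ U ≤ D₀)) bI).symm.trans ?_
    refine (congrArg _ e1).trans ?_
    refine (QCohLib.app_smul ψ _ _ _).trans ?_
    exact congrArg (fun t : Γ(C, D₀ ⊓ U) => C.presheaf.map (homOfLE (inf_le_left : D₀ ⊓ U ≤ D₀)).op b₀ * t)
      (QCohLib.app_map ψ (homOfLE (inf_le_right : D₀ ⊓ U ≤ U)) one)
  -- the bundle of `P`
  obtain ⟨L, hL, s, hd, hs, hzero, hlift⟩ :=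
    exists_point_bundle_lift (k := k) hdim hc hPD₀ b₀ hb₀ hbu₀ (U := U) rfl
  obtain ⟨t, ht⟩ := hlift h c hbh
  have hQU : Q ∈ U := fun e => hPQ e.symm
  have htQ : t ≠ 0 ∧ ¬ GenAt L t (show Q ∈ (⊤ : C.Opens) from trivial) := by
    have hgs : GenOn L (res L (le_top : U ≤ ⊤) s) :=
      TwistLib.genOn_of_genAt fun z hz => (AmpleLib.genAt_res le_top s hz).mpr ((hzero z).mpr hz)
    refine ⟨fun e0 => ?_, fun hg => hQh ?_⟩
    · have hh0 : h = 0 := (hgs U le_rfl).1 (by
        dsimp only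
        rw [AmpleLib.res_refl, ← ht, e0, zero_smul]
        exact map_zero _)
      haveI : Mono (ClSub.idealModι y.ker) := (CurvLib.idealSeq_shortExact y.ker).mono_f
      haveI : Mono ψ := mono_comp _ _
      have hone0 : one = 0 := QCohLib.app_injective_of_mono ψ U (hh0.trans (map_zero _).symm)
      rw [hone0, map_zero] at hone
      haveI : Nonempty U := ⟨⟨Q, hQU⟩⟩
      exact zero_ne_one (α := Γ(C, U)) hone
    · rw [← AmpleLib.genAt_res (le_top : U ≤ ⊤) t hQU, ht, AmpleLib.genAt_smul_iff _ _ hQU (hgs.genAt hQU)] at hg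
      exact hg
  have hd1 : Curv2.deg k C L 1 = 1 := by
    rw [hd, finrank_residueField_rational x hx]; rfl
  refine ⟨L, hL, hd1, ?_⟩
  letI := kmod k L
  haveI := CurvLib.finite_HH (k := k) (CurvLib.isCoh_of_isInvertible hL) 0
  haveI : Module.Finite k Γ(L, ⊤) := Module.Finite.equiv (e0k k L)
  rw [(e0k k L).finrank_eq]
  by_contra hlt
  obtain ⟨v, hv⟩ : ∃ v : Γ(L, ⊤), ∀ z : Γ(L, ⊤), ∃ r : k, r • v = z :=
    finrank_le_one_iff.mp (Nat.lt_succ_iff.mp (not_le.mp hlt))
  obtain ⟨a, ha⟩ := hv s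
  obtain ⟨r, hr⟩ := hv t
  have ha0 : a ≠ 0 := fun e => hs (by rw [← ha, e, zero_smul])
  have hts : t = (r * a⁻¹) • s := by
    rw [← ha, smul_smul, mul_assoc, inv_mul_cancel₀ ha0, mul_one, hr]
  by_cases hr0 : r = 0
  · exact htQ.1 (by rw [hts, hr0, zero_mul, zero_smul])
  refine htQ.2 ?_
  rw [hts]
  show GenAt L (ρ k (X := C) (r * a⁻¹) • s) (show Q ∈ (⊤ : C.Opens) from trivial)
  rw [AmpleLib.genAt_smul_iff _ _ _ ((hzero Q).mpr (Ne.symm hPQ)),
    Scheme.mem_basicOpen C (ρ k (r * a⁻¹)) Q (show Q ∈ (⊤ : C.Opens) from trivial)]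
  exact (isUnit_iff_ne_zero.mpr (mul_ne_zero hr0 (inv_ne_zero ha0))).map
    ((C.presheaf.germ ⊤ Q trivial).hom.comp (ρ k))

end GenusZeroLib

end
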